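import Mathlib
import Cfsg.Prelude.Def_GeometricClasses

/-!
Transvections as elements of `GL ι F`, acting on column vectors, and basic facts on
subspace stabilisers (`Cfsg.Geo.subspaceStabilizer`) and `Cfsg.Geo.specialLinear`.
-/

set_option autoImplicit false

namespace Cfsg.Agent.Lib.Helper29

open Matrix Module

variable {ι : Type} [Fintype ι] [DecidableEq ι] {F : Type*} [Field F]

/-- Two elements of GL with the same action on vectors are equal. -/
theorem gl_ext {g h : GL ι F}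
    (H : ∀ x : ι → F, (g : Matrix ι ι F) *ᵥ x = (h : Matrix ι ι F) *ᵥ x) : g = h :=
  Units.ext (Matrix.ext_of_mulVec_single fun _ => H _)

theorem gl_inv_mulVec (g : GL ι F) (x : ι → F) :
    ((g⁻¹ : GL ι F) : Matrix ι ι F) *ᵥ ((g : Matrix ι ι F) *ᵥ x) = x := by
  rw [Matrix.mulVec_mulVec, ← Units.val_mul, inv_mul_cancel, Units.val_one, Matrix.one_mulVec]

theorem gl_mulVec_inv (g : GL ι F) (x : ι → F) :
    (g : Matrix ι ι F) *ᵥ (((g⁻¹ : GL ι F) : Matrix ι ι F) *ᵥ x) = x := by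
  rw [Matrix.mulVec_mulVec, ← Units.val_mul, mul_inv_cancel, Units.val_one, Matrix.one_mulVec]

theorem gl_mul_mulVec (g h : GL ι F) (x : ι → F) :
    ((g * h : GL ι F) : Matrix ι ι F) *ᵥ x = (g : Matrix ι ι F) *ᵥ ((h : Matrix ι ι F) *ᵥ x) := by
  rw [Units.val_mul, Matrix.mulVec_mulVec]

/-- The element of GL attached to a linear automorphism of `ι → F`. -/
noncomputable def ofLE (e : (ι → F) ≃ₗ[F] (ι → F)) : GL ι F :=
  ⟨LinearMap.toMatrix' (e : (ι → F) →ₗ[F] (ι → F)),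
   LinearMap.toMatrix' (e.symm : (ι → F) →ₗ[F] (ι → F)),
   by rw [← LinearMap.toMatrix'_comp]; simp,
   by rw [← LinearMap.toMatrix'_comp]; simp⟩

theorem ofLE_mulVec (e : (ι → F) ≃ₗ[F] (ι → F)) (x : ι → F) :
    (ofLE e : Matrix ι ι F) *ᵥ x = e x := by
  simp [ofLE, LinearMap.toMatrix'_mulVec]

theorem ofLE_inv_mulVec (e : (ι → F) ≃ₗ[F] (ι → F)) (x : ι → F) :
    (((ofLE e)⁻¹ : GL ι F) : Matrix ι ι F) *ᵥ x = e.symm x := by
  simp [ofLE, LinearMap.toMatrix'_mulVec]

theorem det_ofLE (e : (ι → F) ≃ₗ[F] (ι → F)) :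
    (ofLE e : Matrix ι ι F).det = LinearMap.det (e : (ι → F) →ₗ[F] (ι → F)) := by
  simp [ofLE, LinearMap.det_toMatrix']

theorem mem_specialLinear_iff (g : GL ι F) :
    g ∈ Cfsg.Geo.specialLinear ι F ↔ (g : Matrix ι ι F).det = 1 := by
  unfold Cfsg.Geo.specialLinear
  rw [MonoidHom.mem_ker, ← Units.val_inj, Matrix.GeneralLinearGroup.val_det_apply, Units.val_one]

/-- The transvection `x ↦ x + f x • v` (with `f v = 0`) as an element of GL. -/
noncomputable def tv (f : Dual F (ι → F)) (v : ι → F) (h : f v = 0) : GL ι F :=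
  ofLE (LinearEquiv.transvection h)

theorem tv_mulVec (f : Dual F (ι → F)) (v : ι → F) (h : f v = 0) (x : ι → F) :
    (tv f v h : Matrix ι ι F) *ᵥ x = x + f x • v := by
  rw [tv, ofLE_mulVec]; rfl

theorem tv_mem_specialLinear (f : Dual F (ι → F)) (v : ι → F) (h : f v = 0) :
    tv f v h ∈ Cfsg.Geo.specialLinear ι F := by
  rw [mem_specialLinear_iff, tv, det_ofLE, LinearEquiv.transvection.coe_toLinearMap,
    LinearMap.transvection.det, h, add_zero]

theorem tv_inv (f : Dual F (ι → F)) (v : ι → F) (h : f v = 0) :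
    (tv f v h)⁻¹ = tv f (-v) (by simp [h]) := by
  rw [inv_eq_iff_mul_eq_one]
  apply gl_ext
  intro x
  rw [gl_mul_mulVec, tv_mulVec, tv_mulVec]
  simp [h]

theorem tv_smul_left (f : Dual F (ι → F)) (v : ι → F) (c : F) (h : f (c • v) = 0)
    (h' : (c • f) v = 0) : tv f (c • v) h = tv (c • f) v h' := by
  apply gl_ext
  intro x
  rw [tv_mulVec, tv_mulVec]
  simp [smul_smul, mul_comm]

/-- Conjugating a transvection. -/
theorem conj_tv (g : GL ι F) (f : Dual F (ι → F)) (v : ι → F) (h : f v = 0) :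
    g * tv f v h * g⁻¹ =
      tv (f ∘ₗ Matrix.toLin' ((g⁻¹ : GL ι F) : Matrix ι ι F)) ((g : Matrix ι ι F) *ᵥ v)
        (by simp [Matrix.toLin'_apply, h]) := by
  apply gl_ext
  intro x
  rw [gl_mul_mulVec, gl_mul_mulVec, tv_mulVec, tv_mulVec, Matrix.mulVec_add, gl_mulVec_inv,
    Matrix.mulVec_smul]
  simp [Matrix.toLin'_apply]

theorem mem_subspaceStabilizer_iff (W : Submodule F (ι → F)) (g : GL ι F) :
    g ∈ Cfsg.Geo.subspaceStabilizer W ↔ ∀ v, v ∈ W ↔ (g : Matrix ι ι F) *ᵥ v ∈ W :=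
  Iff.rfl

/-- To stabilise `W` it is enough that `g` and `g⁻¹` map `W` into itself. -/
theorem mem_subspaceStabilizer_of (W : Submodule F (ι → F)) (g : GL ι F)
    (h1 : ∀ v ∈ W, (g : Matrix ι ι F) *ᵥ v ∈ W)
    (h2 : ∀ v ∈ W, ((g⁻¹ : GL ι F) : Matrix ι ι F) *ᵥ v ∈ W) :
    g ∈ Cfsg.Geo.subspaceStabilizer W := by
  rw [mem_subspaceStabilizer_iff]
  intro v
  refine ⟨h1 v, fun hv => ?_⟩
  have := h2 _ hv
  rwa [gl_inv_mulVec] at this

/-- A transvection whose vector lies in `W` stabilises `W`. -/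
theorem tv_mem_stab_of_mem (W : Submodule F (ι → F)) (f : Dual F (ι → F)) (v : ι → F)
    (h : f v = 0) (hv : v ∈ W) : tv f v h ∈ Cfsg.Geo.subspaceStabilizer W := by
  apply mem_subspaceStabilizer_of
  · intro x hx
    rw [tv_mulVec]
    exact W.add_mem hx (W.smul_mem _ hv)
  · intro x hx
    rw [tv_inv, tv_mulVec]
    exact W.add_mem hx (W.smul_mem _ (W.neg_mem hv))

/-- A transvection whose functional vanishes on `W` stabilises `W`. -/
theorem tv_mem_stab_of_le_ker (W : Submodule F (ι → F)) (f : Dual F (ι → F)) (v : ι → F)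
    (h : f v = 0) (hW : ∀ w ∈ W, f w = 0) : tv f v h ∈ Cfsg.Geo.subspaceStabilizer W := by
  apply mem_subspaceStabilizer_of
  · intro x hx
    rw [tv_mulVec, hW x hx, zero_smul, add_zero]
    exact hx
  · intro x hx
    rw [tv_inv, tv_mulVec, hW x hx, zero_smul, add_zero]
    exact hx

/-- A functional vanishing on `A` and taking the value `1` at `x ∉ A`. -/
theorem exists_dual_eq_one {V : Type*} [AddCommGroup V] [Module F V] (A : Submodule F V) {x : V}
    (hx : x ∉ A) : ∃ f : Dual F V, (∀ a ∈ A, f a = 0) ∧ f x = 1 := by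
  obtain ⟨f, hf, hA⟩ := Submodule.exists_le_ker_of_notMem hx
  refine ⟨(f x)⁻¹ • f, fun a ha => ?_, ?_⟩
  · have : f a = 0 := hA ha
    simp [this]
  · simp [hf]

/-- If `u ∉ A` and `v ∈ A`, some transvection fixes `A` pointwise and maps `u` to `u + v`. -/
theorem exists_tv_fix (A : Submodule F (ι → F)) {u v : ι → F} (hu : u ∉ A) (hv : v ∈ A) :
    ∃ (f : Dual F (ι → F)) (h : f v = 0), (∀ a ∈ A, f a = 0) ∧
      (tv f v h : Matrix ι ι F) *ᵥ u = u + v := by
  obtain ⟨f, hA, hfu⟩ := exists_dual_eq_one A hu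
  refine ⟨f, hA v hv, hA, ?_⟩
  rw [tv_mulVec, hfu, one_smul]

/-- The image of a subspace under an element of GL. -/
noncomputable def glMap (g : GL ι F) (W : Submodule F (ι → F)) : Submodule F (ι → F) :=
  W.map (Matrix.toLin' (g : Matrix ι ι F))

theorem mem_glMap (g : GL ι F) (W : Submodule F (ι → F)) (x : ι → F) :
    x ∈ glMap g W ↔ ((g⁻¹ : GL ι F) : Matrix ι ι F) *ᵥ x ∈ W := by
  unfold glMap
  rw [Submodule.mem_map]
  constructor
  · rintro ⟨y, hy, rfl⟩
    rwa [Matrix.toLin'_apply, gl_inv_mulVec]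
  · intro h
    exact ⟨_, h, by rw [Matrix.toLin'_apply, gl_mulVec_inv]⟩

theorem mulVec_mem_glMap (g : GL ι F) (W : Submodule F (ι → F)) {x : ι → F} (hx : x ∈ W) :
    (g : Matrix ι ι F) *ᵥ x ∈ glMap g W := by
  rw [mem_glMap, gl_inv_mulVec]; exact hx

theorem glMap_mul (g h : GL ι F) (W : Submodule F (ι → F)) :
    glMap (g * h) W = glMap g (glMap h W) := by
  ext x
  rw [mem_glMap, mem_glMap, mem_glMap, _root_.mul_inv_rev, gl_mul_mulVec]

theorem glMap_one (W : Submodule F (ι → F)) : glMap (1 : GL ι F) W = W := by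
  ext x
  rw [mem_glMap]; simp

theorem finrank_glMap (g : GL ι F) (W : Submodule F (ι → F)) :
    finrank F (glMap g W) = finrank F W := by
  unfold glMap
  have hinj : Function.Injective (Matrix.toLin' (g : Matrix ι ι F)) := by
    intro x y hxy
    rw [Matrix.toLin'_apply, Matrix.toLin'_apply] at hxy
    rw [← gl_inv_mulVec g x, hxy, gl_inv_mulVec]
  exact (LinearEquiv.finrank_eq (Submodule.equivMapOfInjective _ hinj W)).symm

theorem mem_subspaceStabilizer_iff_glMap (W : Submodule F (ι → F)) (g : GL ι F) :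
    g ∈ Cfsg.Geo.subspaceStabilizer W ↔ glMap g W = W := by
  rw [mem_subspaceStabilizer_iff]
  constructor
  · intro h
    ext x
    rw [mem_glMap, h (((g⁻¹ : GL ι F) : Matrix ι ι F) *ᵥ x), gl_mulVec_inv]
  · intro h v
    conv_lhs => rw [← gl_inv_mulVec g v, ← mem_glMap, h]

/-- A subgroup containing all transvections is transitive on the subspaces of a given dimension. -/
theorem exists_mem_glMap_eq_aux (M : Subgroup (GL ι F))
    (hM : ∀ (f : Dual F (ι → F)) (v : ι → F) (h : f v = 0), tv f v h ∈ M)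
    (W₂ : Submodule F (ι → F)) :
    ∀ (d : ℕ) (W₁ : Submodule F (ι → F)), finrank F W₁ = finrank F W₂ →
      finrank F W₂ - finrank F (W₁ ⊓ W₂ : Submodule F (ι → F)) ≤ d → ∃ t ∈ M, glMap t W₁ = W₂ := by
  intro d
  induction d with
  | zero =>
    intro W₁ hd h0
    refine ⟨1, M.one_mem, ?_⟩
    rw [glMap_one]
    have h1 : W₁ ⊓ W₂ = W₂ :=
      Submodule.eq_of_le_of_finrank_le inf_le_right (by omega)
    have h2 : W₂ ≤ W₁ := by rw [← h1]; exact inf_le_left
    exact (Submodule.eq_of_le_of_finrank_eq h2 hd.symm).symm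
  | succ d ih =>
    intro W₁ hd hle
    by_cases h12 : W₁ ≤ W₂
    · exact ⟨1, M.one_mem, by rw [glMap_one]; exact Submodule.eq_of_le_of_finrank_eq h12 hd⟩
    have h21 : ¬ W₂ ≤ W₁ := fun h => h12 (Submodule.eq_of_le_of_finrank_eq h hd.symm).ge
    obtain ⟨a, ha1, ha2⟩ := SetLike.not_le_iff_exists.mp h12
    obtain ⟨b, hb2, hb1⟩ := SetLike.not_le_iff_exists.mp h21
    obtain ⟨φ₁, hφ₁, hφ₁a⟩ := exists_dual_eq_one W₂ ha2
    obtain ⟨φ₂, hφ₂, hφ₂b⟩ := exists_dual_eq_one W₁ hb1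
    have hφ : (φ₁ + φ₂) (b - a) = 0 := by
      simp [hφ₁ b hb2, hφ₂ a ha1, hφ₁a, hφ₂b]
    set t := tv (φ₁ + φ₂) (b - a) hφ with ht
    have hta : (t : Matrix ι ι F) *ᵥ a = b := by
      rw [ht, tv_mulVec]
      simp [hφ₂ a ha1, hφ₁a]
    have hfix : ∀ x ∈ W₁ ⊓ W₂, (t : Matrix ι ι F) *ᵥ x = x := by
      intro x hx
      rw [ht, tv_mulVec]
      simp [hφ₁ x hx.2, hφ₂ x hx.1]
    have hlt : W₁ ⊓ W₂ < glMap t W₁ ⊓ W₂ := by
      refine lt_of_le_of_ne ?_ ?_
      · intro x hx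
        refine ⟨?_, hx.2⟩
        rw [← hfix x hx]
        exact mulVec_mem_glMap t W₁ hx.1
      · intro heq
        have hb : b ∈ glMap t W₁ ⊓ W₂ := ⟨by rw [← hta]; exact mulVec_mem_glMap t W₁ ha1, hb2⟩
        rw [← heq] at hb
        exact hb1 hb.1
    have hlt' := Submodule.finrank_lt_finrank_of_lt hlt
    obtain ⟨t', ht', h'⟩ := ih (glMap t W₁) (by rw [finrank_glMap, hd]) (by omega)
    exact ⟨t' * t, M.mul_mem ht' (hM _ _ _), by rw [glMap_mul, h']⟩

theorem exists_mem_glMap_eq (M : Subgroup (GL ι F))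
    (hM : ∀ (f : Dual F (ι → F)) (v : ι → F) (h : f v = 0), tv f v h ∈ M)
    (W₁ W₂ : Submodule F (ι → F)) (hd : finrank F W₁ = finrank F W₂) :
    ∃ t ∈ M, glMap t W₁ = W₂ :=
  exists_mem_glMap_eq_aux M hM W₂ _ W₁ hd le_rfl

/-- A subgroup of GL containing the stabiliser of `W` in SL and an element not stabilising `W`
contains all transvections. -/
theorem all_tv_mem (W : Submodule F (ι → F)) (M : Subgroup (GL ι F))
    (hP : Cfsg.Geo.subspaceStabilizer W ⊓ Cfsg.Geo.specialLinear ι F ≤ M)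
    {g : GL ι F} (hg : g ∈ M) (hgW : g ∉ Cfsg.Geo.subspaceStabilizer W) :
    ∀ (f : Dual F (ι → F)) (v : ι → F) (h : f v = 0), tv f v h ∈ M := by
  -- the set of full centres
  let X : Set (ι → F) := {x | ∀ (f : Dual F (ι → F)) (h : f x = 0), tv f x h ∈ M}
  have hXsmul : ∀ (c : F) (x : ι → F), x ∈ X → c • x ∈ X := by
    intro c x hx f h
    have h' : (c • f) x = 0 := by simpa using h
    rw [tv_smul_left f x c h h']
    exact hx _ _
  have hXM : ∀ m ∈ M, ∀ x ∈ X, (m : Matrix ι ι F) *ᵥ x ∈ X := by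
    intro m hm x hx f h
    have h' : (f ∘ₗ Matrix.toLin' (m : Matrix ι ι F)) x = 0 := by
      simpa [Matrix.toLin'_apply] using h
    have key := conj_tv m (f ∘ₗ Matrix.toLin' (m : Matrix ι ι F)) x h'
    have : tv f ((m : Matrix ι ι F) *ᵥ x) h = m * tv (f ∘ₗ Matrix.toLin' (m : Matrix ι ι F)) x h' * m⁻¹ := by
      rw [key]
      apply gl_ext
      intro y
      rw [tv_mulVec, tv_mulVec]
      simp [Matrix.toLin'_apply]
    rw [this]
    exact M.mul_mem (M.mul_mem hm (hx _ _)) (M.inv_mem hm)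
  have hXadd : ∀ x ∈ X, ∀ y ∈ X, x + y ∈ X := by
    intro x hx y hy
    by_cases hxy : x ∈ Submodule.span F {y}
    · obtain ⟨c, rfl⟩ := Submodule.mem_span_singleton.mp hxy
      have : c • y + y = (c + 1) • y := by rw [add_smul, one_smul]
      rw [this]
      exact hXsmul _ _ hy
    · obtain ⟨χ, hχ, hχx⟩ := exists_dual_eq_one _ hxy
      have hχy : χ y = 0 := hχ y (Submodule.mem_span_singleton_self y)
      have := hXM _ (hy χ hχy) x hx
      rwa [tv_mulVec, hχx, one_smul] at this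
  have hWX : ∀ w ∈ W, w ∈ X := by
    intro w hw f h
    exact hP ⟨tv_mem_stab_of_mem W f w h hw, tv_mem_specialLinear f w h⟩
  obtain ⟨x₀, hx₀X, hx₀W⟩ : ∃ x₀ ∈ X, x₀ ∉ W := by
    rw [mem_subspaceStabilizer_iff] at hgW
    push Not at hgW
    obtain ⟨v, hv | hv⟩ := hgW
    · exact ⟨_, hXM g hg v (hWX v hv.1), hv.2⟩
    · refine ⟨v, ?_, hv.1⟩
      have := hXM g⁻¹ (M.inv_mem hg) _ (hWX _ hv.2)
      rwa [gl_inv_mulVec] at this
  have hXtop : ∀ z : ι → F, z ∈ X := by
    intro z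
    by_cases hz : x₀ ∈ W ⊔ Submodule.span F {z}
    · obtain ⟨w, hw, y, hy, hwy⟩ := Submodule.mem_sup.mp hz
      obtain ⟨c, rfl⟩ := Submodule.mem_span_singleton.mp hy
      have hc : c ≠ 0 := by
        rintro rfl
        apply hx₀W
        rw [← hwy]; simpa using hw
      have : z = c⁻¹ • (x₀ + (-1 : F) • w) := by
        rw [← hwy]
        simp [smul_smul, hc]
      rw [this]
      exact hXsmul _ _ (hXadd _ hx₀X _ (hXsmul _ _ (hWX w hw)))
    · obtain ⟨χ, hχ, hχx⟩ := exists_dual_eq_one _ hz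
      have hχz : χ z = 0 := hχ z (Submodule.mem_sup_right (Submodule.mem_span_singleton_self z))
      have hmem : tv χ z hχz ∈ M :=
        hP ⟨tv_mem_stab_of_le_ker W χ z hχz (fun w hw => hχ w (Submodule.mem_sup_left hw)),
          tv_mem_specialLinear χ z hχz⟩
      have h1 := hXM _ hmem x₀ hx₀X
      rw [tv_mulVec, hχx, one_smul] at h1
      have : z = (x₀ + z) + (-1 : F) • x₀ := by simp
      rw [this]
      exact hXadd _ h1 _ (hXsmul _ _ hx₀X)
  intro f v h
  exact hXtop v f h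

/-- Some transvection does not stabilise a given proper non-zero subspace. -/
theorem exists_tv_not_mem_stab (W : Submodule F (ι → F)) (hW0 : W ≠ ⊥) (hW1 : W ≠ ⊤) :
    ∃ (f : Dual F (ι → F)) (v : ι → F) (h : f v = 0),
      tv f v h ∉ Cfsg.Geo.subspaceStabilizer W := by
  obtain ⟨w, hw, hw0⟩ := Submodule.exists_mem_ne_zero_of_ne_bot hW0
  obtain ⟨v, hv⟩ : ∃ v, v ∉ W := by
    by_contra hcon
    push Not at hcon
    exact hW1 (eq_top_iff.mpr fun x _ => hcon x)
  have hwv : w ∉ Submodule.span F {v} := by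
    intro hmem
    obtain ⟨c, rfl⟩ := Submodule.mem_span_singleton.mp hmem
    have hc : c ≠ 0 := by rintro rfl; simp at hw0
    apply hv
    have := W.smul_mem c⁻¹ hw
    rwa [smul_smul, inv_mul_cancel₀ hc, one_smul] at this
  obtain ⟨f, h, -, hfu⟩ := exists_tv_fix _ hwv (Submodule.mem_span_singleton_self v)
  refine ⟨f, v, h, fun hmem => ?_⟩
  have := ((mem_subspaceStabilizer_iff W _).mp hmem w).mp hw
  rw [hfu] at this
  exact hv ((W.add_mem_iff_right hw).mp this)

/-- The stabiliser in SL of a proper non-zero subspace is a maximal subgroup of SL. -/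
theorem stab_isMaximalIn (W : Submodule F (ι → F)) (hW0 : W ≠ ⊥) (hW1 : W ≠ ⊤) :
    Cfsg.Geo.IsMaximalIn (Cfsg.Geo.specialLinear ι F)
      (Cfsg.Geo.subspaceStabilizer W ⊓ Cfsg.Geo.specialLinear ι F) := by
  refine ⟨lt_of_le_of_ne inf_le_right ?_, ?_⟩
  · intro heq
    obtain ⟨f, v, h, hn⟩ := exists_tv_not_mem_stab W hW0 hW1
    have := tv_mem_specialLinear f v h
    rw [← heq] at this
    exact hn this.1
  · intro M hPM hMS
    by_cases hMP : M ≤ Cfsg.Geo.subspaceStabilizer W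
    · left
      exact le_antisymm (le_inf hMP hMS) hPM
    · right
      obtain ⟨g, hg, hgW⟩ := SetLike.not_le_iff_exists.mp hMP
      have htv := all_tv_mem W M hPM hg hgW
      refine le_antisymm hMS ?_
      intro x hx
      obtain ⟨t, ht, htW⟩ := exists_mem_glMap_eq M htv W (glMap x W) (finrank_glMap x W).symm
      have h1 : t⁻¹ * x ∈ Cfsg.Geo.subspaceStabilizer W := by
        rw [mem_subspaceStabilizer_iff_glMap, glMap_mul, ← htW, ← glMap_mul, inv_mul_cancel,
          glMap_one]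
      have h2 : t⁻¹ * x ∈ M :=
        hPM ⟨h1, (Cfsg.Geo.specialLinear ι F).mul_mem
          ((Cfsg.Geo.specialLinear ι F).inv_mem (hMS ht)) hx⟩
      have := M.mul_mem ht h2
      rwa [mul_inv_cancel_left] at this

end Cfsg.Agent.Lib.Helper29
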