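import Mathlib
import Cfsg.Prelude.Def_GeometricClasses
import Cfsg.Agent.Lib.Helper29.Transv
import Cfsg.Agent.H5.Symp
import Cfsg.Agent.S0765

/-!
Symplectic transvections as elements of `GL (Fin m ⊕ Fin m) F`, the group `Cfsg.spGL m F`.
-/

set_option autoImplicit false

namespace Cfsg.Agent.Lib.Helper29

open Matrix Module
open Cfsg.Agent.H5Symp (form_add_left form_add_right form_smul_left form_smul_right form_neg_left
  form_neg_right form_sub_left form_sub_right form_zero_left form_zero_right form_swap form_self)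

variable {m : ℕ} {F : Type*} [Field F]

local notation "Vm" => (Fin m ⊕ Fin m → F)
local notation "B" => Cfsg.sympForm m F

/-- To stabilise `W` it is enough to map `W` into itself. -/
theorem mem_subspaceStabilizer_of_le {ι : Type} [Fintype ι] [DecidableEq ι]
    (W : Submodule F (ι → F)) (g : GL ι F)
    (h1 : ∀ v ∈ W, (g : Matrix ι ι F) *ᵥ v ∈ W) : g ∈ Cfsg.Geo.subspaceStabilizer W := by
  rw [mem_subspaceStabilizer_iff_glMap]
  apply Submodule.eq_of_le_of_finrank_eq
  · intro x hx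
    rw [mem_glMap] at hx
    have := h1 _ hx
    rwa [gl_mulVec_inv] at this
  · exact finrank_glMap g W

/-- The functional `x ↦ B x v`. -/
def formDual (v : Vm) : Dual F Vm where
  toFun x := B x v
  map_add' x y := form_add_left x y v
  map_smul' a x := by simp [form_smul_left]

@[simp] theorem formDual_apply (v x : Vm) : formDual v x = B x v := rfl

/-- The map `v ↦ B · v` as a linear map. -/
def formMap : Vm →ₗ[F] Dual F Vm where
  toFun v := formDual v
  map_add' x y := by ext z; simp [form_add_right]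
  map_smul' a x := by ext z; simp [form_smul_right]

theorem exists_form_ne_zero {u : Vm} (hu : u ≠ 0) : ∃ z : Vm, B u z ≠ 0 := by
  obtain ⟨z, -, hz⟩ := Cfsg.Agent.H5Symp.nondeg_top u trivial hu
  exact ⟨z, hz⟩

theorem formMap_injective : Function.Injective (formMap (m := m) (F := F)) := by
  rw [← LinearMap.ker_eq_bot, LinearMap.ker_eq_bot']
  intro v hv
  by_contra hne
  obtain ⟨z, hz⟩ := exists_form_ne_zero hne
  apply hz
  rw [form_swap]
  have : formMap v z = 0 := by rw [hv]; rfl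
  have h2 : B z v = 0 := this
  rw [h2, neg_zero]

/-- Every functional is of the form `B · v`. -/
theorem exists_formDual_eq (f : Dual F Vm) : ∃ v : Vm, ∀ x, f x = B x v := by
  have hs : Function.Surjective (formMap (m := m) (F := F)) :=
    (LinearMap.injective_iff_surjective_of_finrank_eq_finrank
      (Subspace.dual_finrank_eq).symm).mp formMap_injective
  obtain ⟨v, hv⟩ := hs f
  exact ⟨v, fun x => by rw [← hv]; rfl⟩

/-- If `u ∉ A`, some `z` is orthogonal to `A` with `B u z = 1`. -/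
theorem exists_perp_form_eq_one (A : Submodule F Vm) {u : Vm} (hu : u ∉ A) :
    ∃ z : Vm, (∀ a ∈ A, B a z = 0) ∧ B u z = 1 := by
  obtain ⟨f, hA, hfu⟩ := exists_dual_eq_one A hu
  obtain ⟨z, hz⟩ := exists_formDual_eq f
  exact ⟨z, fun a ha => by rw [← hz, hA a ha], by rw [← hz, hfu]⟩

/-- A subspace is not the union of the kernels of two functionals not vanishing on it. -/
theorem exists_both_ne_zero {V : Type*} [AddCommGroup V] [Module F V] (S : Submodule F V)
    (f₁ f₂ : Dual F V) (h₁ : ∃ z ∈ S, f₁ z ≠ 0) (h₂ : ∃ z ∈ S, f₂ z ≠ 0) :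
    ∃ z ∈ S, f₁ z ≠ 0 ∧ f₂ z ≠ 0 := by
  obtain ⟨z₁, hz₁, h₁⟩ := h₁
  obtain ⟨z₂, hz₂, h₂⟩ := h₂
  by_cases h21 : f₂ z₁ = 0
  · by_cases h12 : f₁ z₂ = 0
    · exact ⟨z₁ + z₂, S.add_mem hz₁ hz₂, by simp [h12, h₁], by simp [h21, h₂]⟩
    · exact ⟨z₂, hz₂, h12, h₂⟩
  · exact ⟨z₁, hz₁, h₁, h21⟩

theorem mem_spGL_iff (g : GL (Fin m ⊕ Fin m) F) :
    g ∈ Cfsg.spGL m F ↔ ∀ u v : Vm, B ((g : Matrix _ _ F) *ᵥ u) ((g : Matrix _ _ F) *ᵥ v) = B u v :=
  Iff.rfl

/-- The symplectic transvection `x ↦ x + c * B x v • v` as an element of GL. -/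
noncomputable def stv (v : Vm) (c : F) : GL (Fin m ⊕ Fin m) F :=
  tv (c • formDual v) v (by simp [form_self])

theorem stv_mulVec (v : Vm) (c : F) (x : Vm) :
    (stv v c : Matrix _ _ F) *ᵥ x = x + (c * B x v) • v := by
  rw [stv, tv_mulVec]; simp

theorem stv_val (v : Vm) (c : F) : (stv v c : Matrix _ _ F) = Cfsg.sympTransvection m v c := by
  apply Cfsg.Agent.H5Symp.mat_ext
  intro x
  rw [stv_mulVec, Cfsg.Agent.H5Symp.tv_mulVec]

theorem stv_mem_spGL (v : Vm) (c : F) : stv v c ∈ Cfsg.spGL m F := by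
  rw [mem_spGL_iff, stv_val]
  exact (Cfsg.Agent.H5Symp.mem_symp_iff _).mp (Cfsg.Agent.H5Symp.tv_mem v c)

theorem stv_zero (c : F) : stv (0 : Vm) c = 1 := by
  apply gl_ext
  intro x
  rw [stv_mulVec]; simp

theorem stv_smul (v : Vm) (a c : F) : stv (a • v) c = stv v (c * a ^ 2) := by
  apply gl_ext
  intro x
  rw [stv_mulVec, stv_mulVec, form_smul_right, smul_smul]
  congr 2
  ring

theorem conj_stv {g : GL (Fin m ⊕ Fin m) F} (hg : g ∈ Cfsg.spGL m F) (v : Vm) (c : F) :
    g * stv v c * g⁻¹ = stv ((g : Matrix _ _ F) *ᵥ v) c := by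
  apply gl_ext
  intro x
  rw [gl_mul_mulVec, gl_mul_mulVec, stv_mulVec, stv_mulVec, Matrix.mulVec_add, gl_mulVec_inv,
    Matrix.mulVec_smul]
  congr 3
  rw [← (mem_spGL_iff g).mp hg, gl_mulVec_inv]

/-- A subgroup of GL containing all symplectic transvections contains the symplectic group. -/
theorem spGL_le_of_stv (M : Subgroup (GL (Fin m ⊕ Fin m) F)) (hM : ∀ (v : Vm) (c : F), stv v c ∈ M) :
    Cfsg.spGL m F ≤ M := by
  intro g hg
  have hmem : (g : Matrix _ _ F) ∈ Matrix.symplecticGroup (Fin m) F :=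
    (Cfsg.Agent.H5Symp.mem_symp_iff _).mpr ((mem_spGL_iff g).mp hg)
  have key : ∀ A ∈ Subgroup.closure {A : Matrix.symplecticGroup (Fin m) F |
      ∃ (w : Fin m ⊕ Fin m → F) (c : F),
        (A : Matrix (Fin m ⊕ Fin m) (Fin m ⊕ Fin m) F) = Cfsg.sympTransvection m w c},
      ∀ h : GL (Fin m ⊕ Fin m) F, (h : Matrix (Fin m ⊕ Fin m) (Fin m ⊕ Fin m) F) = (A : Matrix (Fin m ⊕ Fin m) (Fin m ⊕ Fin m) F) → h ∈ M := by
    intro A hA
    induction hA using Subgroup.closure_induction with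
    | mem x hx =>
      obtain ⟨w, c, hwc⟩ := hx
      intro h hh
      have : h = stv w c := Units.ext (by rw [hh, hwc, stv_val])
      rw [this]; exact hM w c
    | one =>
      intro h hh
      have : h = 1 := Units.ext (by rw [hh]; rfl)
      rw [this]; exact M.one_mem
    | mul x y _ _ hx hy =>
      intro h hh
      -- build GL elements for x and y
      let gx : GL (Fin m ⊕ Fin m) F :=
        ⟨(x : Matrix (Fin m ⊕ Fin m) (Fin m ⊕ Fin m) F),
          ((x⁻¹ : Matrix.symplecticGroup (Fin m) F) : Matrix (Fin m ⊕ Fin m) (Fin m ⊕ Fin m) F),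
          by
            have : ((x * x⁻¹ : Matrix.symplecticGroup (Fin m) F) :
              Matrix (Fin m ⊕ Fin m) (Fin m ⊕ Fin m) F) = 1 := by simp
            exact this,
          by
            have : ((x⁻¹ * x : Matrix.symplecticGroup (Fin m) F) :
              Matrix (Fin m ⊕ Fin m) (Fin m ⊕ Fin m) F) = 1 := by simp
            exact this⟩
      have h1 : gx ∈ M := hx gx rfl
      have h2 : gx⁻¹ * h ∈ M := by
        apply hy
        have : (h : Matrix (Fin m ⊕ Fin m) (Fin m ⊕ Fin m) F) = (gx : Matrix (Fin m ⊕ Fin m) (Fin m ⊕ Fin m) F) * (y : Matrix (Fin m ⊕ Fin m) (Fin m ⊕ Fin m) F) := by rw [hh]; rfl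
        rw [Units.val_mul, this, ← mul_assoc, ← Units.val_mul, inv_mul_cancel, Units.val_one, one_mul]
      have := M.mul_mem h1 h2
      rwa [mul_inv_cancel_left] at this
    | inv x _ hx =>
      intro h hh
      have : h⁻¹ ∈ M := by
        apply hx
        have h3 : (h : Matrix (Fin m ⊕ Fin m) (Fin m ⊕ Fin m) F) * (x : Matrix (Fin m ⊕ Fin m) (Fin m ⊕ Fin m) F) = 1 := by
          rw [hh]
          have : ((x⁻¹ * x : Matrix.symplecticGroup (Fin m) F) : Matrix (Fin m ⊕ Fin m) (Fin m ⊕ Fin m) F) = 1 := by simp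
          exact this
        calc ((h⁻¹ : GL (Fin m ⊕ Fin m) F) : Matrix (Fin m ⊕ Fin m) (Fin m ⊕ Fin m) F)
            = ((h⁻¹ : GL (Fin m ⊕ Fin m) F) : Matrix (Fin m ⊕ Fin m) (Fin m ⊕ Fin m) F) * ((h : Matrix (Fin m ⊕ Fin m) (Fin m ⊕ Fin m) F) * (x : Matrix (Fin m ⊕ Fin m) (Fin m ⊕ Fin m) F)) := by
              rw [h3, mul_one]
          _ = (x : Matrix (Fin m ⊕ Fin m) (Fin m ⊕ Fin m) F) := by
              rw [← mul_assoc, ← Units.val_mul, inv_mul_cancel, Units.val_one, one_mul]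
      simpa using M.inv_mem this
  exact key ⟨_, hmem⟩ (by rw [Cfsg.Agent.S0765.result]; trivial) g rfl

/-- The vectors `x` all of whose symplectic transvections lie in `M`. -/
def centres (M : Subgroup (GL (Fin m ⊕ Fin m) F)) : Set Vm := {x | ∀ c : F, stv x c ∈ M}

theorem centres_zero (M : Subgroup (GL (Fin m ⊕ Fin m) F)) : (0 : Vm) ∈ centres M := by
  intro c; rw [stv_zero]; exact M.one_mem

theorem centres_smul {M : Subgroup (GL (Fin m ⊕ Fin m) F)} {x : Vm} (hx : x ∈ centres M) (a : F) :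
    a • x ∈ centres M := by
  intro c; rw [stv_smul]; exact hx _

theorem centres_mulVec {M : Subgroup (GL (Fin m ⊕ Fin m) F)} (hM : M ≤ Cfsg.spGL m F)
    {g : GL (Fin m ⊕ Fin m) F} (hg : g ∈ M) {x : Vm} (hx : x ∈ centres M) :
    (g : Matrix _ _ F) *ᵥ x ∈ centres M := by
  intro c
  rw [← conj_stv (hM hg)]
  exact M.mul_mem (M.mul_mem hg (hx c)) (M.inv_mem hg)

theorem centres_add {M : Subgroup (GL (Fin m ⊕ Fin m) F)} (hM : M ≤ Cfsg.spGL m F)
    {x y : Vm} (hx : x ∈ centres M) (hy : y ∈ centres M) (hxy : B x y ≠ 0) :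
    x + y ∈ centres M := by
  have := centres_mulVec hM (hy (B x y)⁻¹) hx
  rwa [stv_mulVec, inv_mul_cancel₀ hxy, one_smul] at this

/-- The isometry `x ↦ x + B x a • w + B x w • a` for orthogonal `a`, `w`. -/
noncomputable def eich (a w : Vm) : GL (Fin m ⊕ Fin m) F :=
  stv (a + w) 1 * stv a (-1) * stv w (-1)

theorem eich_mem_spGL (a w : Vm) : eich a w ∈ Cfsg.spGL m F :=
  (Cfsg.spGL m F).mul_mem ((Cfsg.spGL m F).mul_mem (stv_mem_spGL _ _) (stv_mem_spGL _ _))
    (stv_mem_spGL _ _)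

theorem eich_mulVec {a w : Vm} (haw : B a w = 0) (x : Vm) :
    (eich a w : Matrix _ _ F) *ᵥ x = x + B x a • w + B x w • a := by
  have hwa : B w a = 0 := by rw [form_swap, haw, neg_zero]
  unfold eich
  rw [gl_mul_mulVec, gl_mul_mulVec, stv_mulVec, stv_mulVec, stv_mulVec]
  simp only [form_add_left, form_add_right, form_smul_left, form_self, haw, hwa]
  module

/-- If every vector `z` with `B z w ≠ 0` is a centre (`w ≠ 0`), all vectors are centres. -/
theorem centres_eq_univ_of {M : Subgroup (GL (Fin m ⊕ Fin m) F)} (hM : M ≤ Cfsg.spGL m F)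
    {w : Vm} (hw : w ≠ 0) (h : ∀ z : Vm, B z w ≠ 0 → z ∈ centres M) : ∀ z : Vm, z ∈ centres M := by
  intro z
  by_cases hz : B z w = 0
  · by_cases hz0 : z = 0
    · rw [hz0]; exact centres_zero M
    · obtain ⟨x, -, hx1, hx2⟩ := exists_both_ne_zero (⊤ : Submodule F Vm) (formDual w) (formDual z)
        (by
          obtain ⟨y, hy⟩ := exists_form_ne_zero hw
          exact ⟨y, trivial, by rw [formDual_apply, form_swap]; exact neg_ne_zero.mpr hy⟩)
        (by
          obtain ⟨y, hy⟩ := exists_form_ne_zero hz0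
          exact ⟨y, trivial, by rw [formDual_apply, form_swap]; exact neg_ne_zero.mpr hy⟩)
      rw [formDual_apply] at hx1 hx2
      have h1 : x ∈ centres M := h x hx1
      have h2 : z - x ∈ centres M := h _ (by rw [form_sub_left, hz, zero_sub]; exact neg_ne_zero.mpr hx1)
      have h3 := centres_add hM h1 h2 (by rw [form_sub_right, form_self, sub_zero]; exact hx2)
      rwa [add_sub_cancel] at h3
  · exact h z hz

/-- An overgroup in Sp of the stabiliser of a totally isotropic subspace `W`, not stabilising `W`,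
contains all symplectic transvections. -/
theorem centres_eq_univ_of_totallySingular (W : Submodule F Vm)
    (hW : Cfsg.Geo.IsTotallySingularFor (Cfsg.sympForm m F) W)
    {M : Subgroup (GL (Fin m ⊕ Fin m) F)} (hM : M ≤ Cfsg.spGL m F)
    (hP : Cfsg.Geo.subspaceStabilizer W ⊓ Cfsg.spGL m F ≤ M)
    {g : GL (Fin m ⊕ Fin m) F} (hg : g ∈ M) (hgW : g ∉ Cfsg.Geo.subspaceStabilizer W) :
    ∀ z : Vm, z ∈ centres M := by
  have hperp : ∀ z : Vm, (∀ a ∈ W, B a z = 0) → z ∈ centres M := by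
    intro z hz c
    refine hP ⟨tv_mem_stab_of_le_ker W _ _ _ (fun a ha => ?_), stv_mem_spGL z c⟩
    simp [hz a ha]
  obtain ⟨w, hwW, hgw⟩ : ∃ w ∈ W, (g : Matrix _ _ F) *ᵥ w ∉ W := by
    by_contra hcon
    push Not at hcon
    exact hgW (mem_subspaceStabilizer_of_le W g hcon)
  obtain ⟨z, hzW, hz1⟩ := exists_perp_form_eq_one W hgw
  set x₀ : Vm := ((g⁻¹ : GL (Fin m ⊕ Fin m) F) : Matrix _ _ F) *ᵥ z with hx₀
  have hx₀X : x₀ ∈ centres M := centres_mulVec hM (M.inv_mem hg) (hperp z hzW)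
  have hc₀ : B x₀ w = -1 := by
    rw [← (mem_spGL_iff g).mp (hM hg), hx₀, gl_mulVec_inv, form_swap, hz1]
  have hw0 : w ≠ 0 := by
    rintro rfl
    rw [form_zero_right] at hc₀
    exact one_ne_zero (neg_eq_zero.mp hc₀.symm)
  have hwX : w ∈ centres M := hperp w (fun a ha => hW a ha w hwW)
  -- x₀ + y is a centre for y ⊥ w
  have hstep : ∀ y : Vm, B y w = 0 → x₀ + y ∈ centres M := by
    intro y hy
    have hE : eich (-y) w ∈ M := by
      refine hP ⟨mem_subspaceStabilizer_of_le W _ (fun v hv => ?_), eich_mem_spGL _ _⟩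
      rw [eich_mulVec (by rw [form_neg_left, hy, neg_zero]), hW v hv w hwW, zero_smul, add_zero]
      exact W.add_mem hv (W.smul_mem _ hwW)
    have h1 := centres_mulVec hM hE hx₀X
    rw [eich_mulVec (by rw [form_neg_left, hy, neg_zero]), hc₀] at h1
    have h2 := centres_mulVec hM (hwX (B x₀ (-y))) h1
    rw [stv_mulVec] at h2
    simp only [form_add_left, form_smul_left, form_self, hc₀, form_neg_left, hy] at h2
    have : x₀ + B x₀ (-y) • w + (-1 : F) • -y + (B x₀ (-y) * (-1 + B x₀ (-y) * 0 + -1 * -0)) • w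
        = x₀ + y := by module
    rwa [this] at h2
  apply centres_eq_univ_of hM hw0
  intro z hz
  have : z = (- B z w) • (x₀ + ((- B z w)⁻¹ • z - x₀)) := by
    rw [add_sub_cancel, smul_smul, mul_inv_cancel₀ (neg_ne_zero.mpr hz), one_smul]
  rw [this]
  apply centres_smul
  apply hstep
  rw [form_sub_left, form_smul_left, hc₀]
  field_simp
  ring

/-- The stabiliser in Sp of a non-zero totally isotropic subspace is maximal. -/
theorem sp_stab_isMaximalIn_of_totallySingular (W : Submodule F Vm) (hW0 : W ≠ ⊥)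
    (hW : Cfsg.Geo.IsTotallySingularFor (Cfsg.sympForm m F) W) :
    Cfsg.Geo.IsMaximalIn (Cfsg.spGL m F) (Cfsg.Geo.subspaceStabilizer W ⊓ Cfsg.spGL m F) := by
  refine ⟨lt_of_le_of_ne inf_le_right ?_, ?_⟩
  · intro heq
    obtain ⟨w, hw, hw0⟩ := Submodule.exists_mem_ne_zero_of_ne_bot hW0
    obtain ⟨x, hx⟩ := exists_form_ne_zero hw0
    have h1 : stv x 1 ∈ Cfsg.spGL m F := stv_mem_spGL x 1
    rw [← heq] at h1
    have h2 := ((mem_subspaceStabilizer_iff W _).mp h1.1 w).mp hw
    rw [stv_mulVec, one_mul] at h2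
    have h3 := (W.add_mem_iff_right hw).mp h2
    have h4 := W.smul_mem (B w x)⁻¹ h3
    rw [smul_smul, inv_mul_cancel₀ hx, one_smul] at h4
    exact hx (hW w hw x h4)
  · intro M hPM hMS
    by_cases hMP : M ≤ Cfsg.Geo.subspaceStabilizer W
    · left
      exact le_antisymm (le_inf hMP hMS) hPM
    · right
      obtain ⟨g, hg, hgW⟩ := SetLike.not_le_iff_exists.mp hMP
      exact le_antisymm hMS (spGL_le_of_stv M
        (fun v c => centres_eq_univ_of_totallySingular W hW hMS hPM hg hgW v c))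

end Cfsg.Agent.Lib.Helper29
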