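import Mathlib
import Cfsg.Prelude.Def_GeometricClasses
import Cfsg.Agent.Lib.Helper29.Transv
import Cfsg.Agent.Lib.Helper29.SpTransv
import Cfsg.Agent.H6.Herm

/-!
The Hermitian form `Cfsg.hermForm n F q` over the field with `q ^ 2` elements: field facts,
Riesz representation, unitary transvections and Eichler transformations as elements of `GL`.
-/

set_option autoImplicit false

namespace Cfsg.Agent.Lib.Helper29

open Matrix Module
open Cfsg.Agent.H6 (add_pow_q pow_q_pow_q neg_pow_q sub_pow_q q_pos hermForm_add_left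
  hermForm_smul_left hermForm_smul_right hermForm_add_right hermForm_conj)

variable {F : Type*} [Field F] [Fintype F] {n q : ℕ}

local notation "H" => Cfsg.hermForm n F q

/-! ### Field facts -/

theorem exists_pow_q_ne (hF : Fintype.card F = q ^ 2) : ∃ x : F, x ^ q ≠ x := by
  classical
  by_contra hcon
  push Not at hcon
  have hq := q_pos hF
  obtain ⟨g, hg⟩ := IsCyclic.exists_generator (α := Fˣ)
  have ho : orderOf g = q ^ 2 - 1 := by
    rw [orderOf_eq_card_of_forall_mem_zpowers hg, Nat.card_eq_fintype_card, Fintype.card_units, hF]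
  have h1 : g ^ (q - 1) = 1 := by
    have h2 : g ^ q = g := Units.ext (by simpa using hcon (g : F))
    have h3 : g ^ (q - 1) * g = 1 * g := by
      rw [← pow_succ, Nat.sub_add_cancel (by omega), h2, one_mul]
    exact mul_right_cancel h3
  have h4 := orderOf_dvd_of_pow_eq_one h1
  rw [ho] at h4
  have h5 := Nat.le_of_dvd (by omega) h4
  have h6 : q * 2 ≤ q ^ 2 := by rw [sq]; exact Nat.mul_le_mul_left q hq
  omega

theorem exists_trace_zero (hF : Fintype.card F = q ^ 2) : ∃ θ : F, θ ≠ 0 ∧ θ + θ ^ q = 0 := by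
  obtain ⟨x, hx⟩ := exists_pow_q_ne hF
  refine ⟨x - x ^ q, sub_ne_zero.mpr (Ne.symm hx), ?_⟩
  rw [sub_pow_q hF, pow_q_pow_q hF]; ring

theorem exists_trace_eq (hF : Fintype.card F = q ^ 2) (r : F) (hr : r ^ q = r) :
    ∃ l : F, l + l ^ q = r := by
  obtain ⟨x₀, hx₀⟩ : ∃ x₀ : F, x₀ + x₀ ^ q ≠ 0 := by
    by_cases h2 : (1 : F) + 1 = 0
    · obtain ⟨x, hx⟩ := exists_pow_q_ne hF
      refine ⟨x, fun h => hx ?_⟩
      have : x ^ q = x + (x + x ^ q) - (1 + 1) * x := by ring
      rw [this, h, h2]; ring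
    · exact ⟨1, by simpa using h2⟩
  have ht : (x₀ + x₀ ^ q) ^ q = x₀ + x₀ ^ q := by
    rw [add_pow_q hF, pow_q_pow_q hF, add_comm]
  refine ⟨r * x₀ / (x₀ + x₀ ^ q), ?_⟩
  rw [div_pow, mul_pow, hr, ht]
  field_simp

/-- For `μ ≠ 0` and `r` in the fixed field there is `l` with `tr (l μ) = r`. -/
theorem exists_trace_mul_eq (hF : Fintype.card F = q ^ 2) {μ : F} (hμ : μ ≠ 0) (r : F)
    (hr : r ^ q = r) : ∃ l : F, l * μ + (l * μ) ^ q = r := by
  obtain ⟨l, hl⟩ := exists_trace_eq hF r hr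
  refine ⟨l / μ, ?_⟩
  rw [div_mul_cancel₀ _ hμ, hl]

theorem inv_trace_zero {c : F} (hc : c + c ^ q = 0) : c⁻¹ + (c⁻¹) ^ q = 0 := by
  by_cases h0 : c = 0
  · subst h0
    simpa using hc
  have h1 : c ^ q ≠ 0 := pow_ne_zero _ h0
  rw [inv_pow]
  field_simp
  linear_combination hc

/-! ### The form -/

theorem herm_zero_left (hq : q ≠ 0) (v : Fin n → F) : H 0 v = 0 := by
  have := hq
  simp [Cfsg.hermForm]

theorem herm_zero_right (hq : q ≠ 0) (v : Fin n → F) : H v 0 = 0 := by
  simp [Cfsg.hermForm, hq]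

theorem herm_neg_left (x z : Fin n → F) : H (-x) z = - H x z := by
  have := hermForm_smul_left (q := q) (-1 : F) x z
  simpa using this

theorem herm_sub_left (x y z : Fin n → F) : H (x - y) z = H x z - H y z := by
  rw [sub_eq_add_neg, hermForm_add_left, herm_neg_left, sub_eq_add_neg]

theorem herm_neg_right (hF : Fintype.card F = q ^ 2) (x z : Fin n → F) : H x (-z) = - H x z := by
  have := hermForm_smul_right (q := q) (-1 : F) x z
  rw [neg_pow_q hF, one_pow] at this
  simpa using this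

theorem herm_sub_right (hF : Fintype.card F = q ^ 2) (x y z : Fin n → F) :
    H x (y - z) = H x y - H x z := by
  rw [sub_eq_add_neg, hermForm_add_right hF, herm_neg_right hF, sub_eq_add_neg]

theorem herm_self_pow (hF : Fintype.card F = q ^ 2) (x : Fin n → F) : (H x x) ^ q = H x x :=
  hermForm_conj hF x x

theorem herm_eq_zero_symm (hF : Fintype.card F = q ^ 2) {x y : Fin n → F} (h : H x y = 0) :
    H y x = 0 := by
  rw [← hermForm_conj hF, h, zero_pow (by have := q_pos hF; omega)]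

theorem herm_ne_zero_symm (hF : Fintype.card F = q ^ 2) {x y : Fin n → F} (h : H x y ≠ 0) :
    H y x ≠ 0 := fun h' => h (herm_eq_zero_symm hF h')

/-- The functional `x ↦ H x v`. -/
def hermDual (n : ℕ) (q : ℕ) (v : Fin n → F) : Dual F (Fin n → F) where
  toFun x := Cfsg.hermForm n F q x v
  map_add' x y := hermForm_add_left x y v
  map_smul' a x := by simp [hermForm_smul_left]

omit [Fintype F] in
@[simp] theorem hermDual_apply (v x : Fin n → F) : hermDual n q v x = H x v := rfl

/-- Every functional is of the form `H · v`. -/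
theorem exists_hermDual_eq (hF : Fintype.card F = q ^ 2) (f : Dual F (Fin n → F)) :
    ∃ v : Fin n → F, ∀ x, f x = H x v := by
  refine ⟨fun i => (f (Pi.single i 1)) ^ q, fun x => ?_⟩
  unfold Cfsg.hermForm
  simp only [pow_q_pow_q hF]
  conv_lhs => rw [← (Pi.basisFun F (Fin n)).sum_repr x, map_sum]
  apply Finset.sum_congr rfl
  intro i _
  simp

theorem exists_herm_ne_zero (hF : Fintype.card F = q ^ 2) {u : Fin n → F} (hu : u ≠ 0) :
    ∃ z : Fin n → F, H z u ≠ 0 := by
  obtain ⟨i, hi⟩ : ∃ i, u i ≠ 0 := by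
    by_contra hcon
    push Not at hcon
    exact hu (funext hcon)
  refine ⟨Pi.single i 1, ?_⟩
  rw [Cfsg.Agent.H6.hermForm_single_left]
  have := hF
  exact pow_ne_zero _ hi

/-- If `u ∉ A`, some `z` is orthogonal to `A` with `H u z = 1`. -/
theorem exists_herm_perp_eq_one (hF : Fintype.card F = q ^ 2) (A : Submodule F (Fin n → F))
    {u : Fin n → F} (hu : u ∉ A) : ∃ z : Fin n → F, (∀ a ∈ A, H a z = 0) ∧ H u z = 1 := by
  obtain ⟨f, hA, hfu⟩ := exists_dual_eq_one A hu
  obtain ⟨z, hz⟩ := exists_hermDual_eq hF f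
  exact ⟨z, fun a ha => by rw [← hz, hA a ha], by rw [← hz, hfu]⟩

/-- Making a vector isotropic by adding a multiple of an isotropic vector not orthogonal to it. -/
theorem exists_isotropic_add (hF : Fintype.card F = q ^ 2) {y w : Fin n → F} (hw : H w w = 0)
    (hyw : H w y ≠ 0) : ∃ l : F, H (y + l • w) (y + l • w) = 0 := by
  obtain ⟨l, hl⟩ := exists_trace_mul_eq hF hyw (- H y y)
    (by rw [neg_pow_q hF, herm_self_pow hF])
  refine ⟨l, ?_⟩
  simp only [hermForm_add_left, hermForm_add_right hF, hermForm_smul_left, hermForm_smul_right, hw]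
  rw [mul_pow, hermForm_conj hF] at hl
  linear_combination hl

theorem mem_GU_iff (g : GL (Fin n) F) :
    g ∈ Cfsg.GU n F q ↔
      ∀ u v : Fin n → F, H ((g : Matrix (Fin n) (Fin n) F) *ᵥ u) ((g : Matrix (Fin n) (Fin n) F) *ᵥ v) = H u v :=
  Iff.rfl

/-! ### Unitary transvections -/

/-- The map `x ↦ x + c * H x v • v` for isotropic `v`, as an element of GL. -/
noncomputable def utv (q : ℕ) (v : Fin n → F) (c : F) (hv : Cfsg.hermForm n F q v v = 0) :
    GL (Fin n) F :=
  tv (c • hermDual n q v) v (by simp [hv])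

theorem utv_mulVec (v : Fin n → F) (c : F) (hv : H v v = 0) (x : Fin n → F) :
    (utv q v c hv : Matrix (Fin n) (Fin n) F) *ᵥ x = x + (c * H x v) • v := by
  rw [utv, tv_mulVec]; simp

theorem utv_mem_SL (v : Fin n → F) (c : F) (hv : H v v = 0) :
    utv q v c hv ∈ Cfsg.Geo.specialLinear (Fin n) F := tv_mem_specialLinear _ _ _

theorem utv_mem_GU (hF : Fintype.card F = q ^ 2) (v : Fin n → F) (c : F) (hv : H v v = 0)
    (hc : c + c ^ q = 0) : utv q v c hv ∈ Cfsg.GU n F q := by
  rw [mem_GU_iff]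
  intro x y
  rw [utv_mulVec, utv_mulVec]
  simp only [hermForm_add_left, hermForm_add_right hF, hermForm_smul_left, hermForm_smul_right, hv,
    mul_pow, hermForm_conj hF]
  linear_combination (H x v * H v y) * hc

theorem utv_mem_SU (hF : Fintype.card F = q ^ 2) (v : Fin n → F) (c : F) (hv : H v v = 0)
    (hc : c + c ^ q = 0) : utv q v c hv ∈ Cfsg.GU n F q ⊓ Cfsg.Geo.specialLinear (Fin n) F :=
  ⟨utv_mem_GU hF v c hv hc, utv_mem_SL v c hv⟩

theorem utv_smul (v : Fin n → F) (a c : F) (hv : H v v = 0) (hav : H (a • v) (a • v) = 0) :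
    utv q (a • v) c hav = utv q v (c * (a * a ^ q)) hv := by
  apply gl_ext
  intro x
  rw [utv_mulVec, utv_mulVec, hermForm_smul_right, smul_smul]
  have e : c * (a ^ q * H x v) * a = c * (a * a ^ q) * H x v := by ring
  rw [e]

theorem conj_utv {g : GL (Fin n) F} (hg : g ∈ Cfsg.GU n F q) (v : Fin n → F) (c : F)
    (hv : H v v = 0) (hgv : H ((g : Matrix (Fin n) (Fin n) F) *ᵥ v) ((g : Matrix (Fin n) (Fin n) F) *ᵥ v) = 0) :
    g * utv q v c hv * g⁻¹ = utv q ((g : Matrix (Fin n) (Fin n) F) *ᵥ v) c hgv := by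
  apply gl_ext
  intro x
  have e : H (((g⁻¹ : GL (Fin n) F) : Matrix (Fin n) (Fin n) F) *ᵥ x) v = H x ((g : Matrix (Fin n) (Fin n) F) *ᵥ v) := by
    rw [← (mem_GU_iff g).mp hg, gl_mulVec_inv]
  rw [gl_mul_mulVec, gl_mul_mulVec, utv_mulVec, utv_mulVec, Matrix.mulVec_add, gl_mulVec_inv,
    Matrix.mulVec_smul, e]

/-! ### Eichler transformations -/

/-- The map `x ↦ x + H x w • a + (s * H x w - H x a) • w`, for `w` isotropic and `a ⊥ w`. -/
noncomputable def ueich (q : ℕ) (w a : Fin n → F) (s : F) (hw : Cfsg.hermForm n F q w w = 0)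
    (haw : Cfsg.hermForm n F q a w = 0) (hwa : Cfsg.hermForm n F q w a = 0) : GL (Fin n) F :=
  tv (hermDual n q w) (a + s • w) (by simp [hermForm_add_left, hermForm_smul_left, hw, haw]) *
    tv (-(hermDual n q a)) w (by simp [hwa])

theorem ueich_mulVec (w a : Fin n → F) (s : F) (hw : H w w = 0) (haw : H a w = 0)
    (hwa : H w a = 0) (x : Fin n → F) :
    (ueich q w a s hw haw hwa : Matrix (Fin n) (Fin n) F) *ᵥ x = x + H x w • a + (s * H x w - H x a) • w := by
  unfold ueich
  rw [gl_mul_mulVec, tv_mulVec, tv_mulVec]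
  simp only [LinearMap.neg_apply, hermDual_apply, hermForm_add_left, hermForm_smul_left, hw]
  module

theorem ueich_mem_SL (w a : Fin n → F) (s : F) (hw : H w w = 0) (haw : H a w = 0)
    (hwa : H w a = 0) : ueich q w a s hw haw hwa ∈ Cfsg.Geo.specialLinear (Fin n) F :=
  (Cfsg.Geo.specialLinear (Fin n) F).mul_mem (tv_mem_specialLinear _ _ _) (tv_mem_specialLinear _ _ _)

theorem ueich_mem_GU (hF : Fintype.card F = q ^ 2) (w a : Fin n → F) (s : F) (hw : H w w = 0)
    (haw : H a w = 0) (hwa : H w a = 0) (hs : s + s ^ q + H a a = 0) :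
    ueich q w a s hw haw hwa ∈ Cfsg.GU n F q := by
  rw [mem_GU_iff]
  intro x y
  rw [ueich_mulVec, ueich_mulVec]
  simp only [hermForm_add_left, hermForm_add_right hF, hermForm_smul_left, hermForm_smul_right, hw,
    haw, hwa, mul_pow, sub_pow_q hF, hermForm_conj hF]
  linear_combination (H x w * H w y) * hs

end Cfsg.Agent.Lib.Helper29
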