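import Mathlib
import Cfsg.Prelude.Def_GeometricClasses
import Cfsg.Agent.Lib.Helper29.SuBasic

/-!
Stabilisers of totally isotropic subspaces are maximal in `SU_n(q)`.
-/

set_option autoImplicit false

namespace Cfsg.Agent.Lib.Helper29

open Matrix Module
open Cfsg.Agent.H6 (add_pow_q pow_q_pow_q neg_pow_q sub_pow_q q_pos hermForm_add_left
  hermForm_smul_left hermForm_smul_right hermForm_add_right hermForm_conj)

variable {F : Type*} [Field F] [Fintype F] {n q : ℕ}

local notation "H" => Cfsg.hermForm n F q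

/-- The isotropic vectors all of whose unitary transvections lie in `M`. -/
def ucentres (q : ℕ) (M : Subgroup (GL (Fin n) F)) : Set (Fin n → F) :=
  {x | ∃ hx : Cfsg.hermForm n F q x x = 0, ∀ c : F, c + c ^ q = 0 → utv q x c hx ∈ M}

theorem ucentres_zero (hF : Fintype.card F = q ^ 2) (M : Subgroup (GL (Fin n) F)) :
    (0 : Fin n → F) ∈ ucentres q M := by
  have hq : q ≠ 0 := by have := q_pos hF; omega
  refine ⟨herm_zero_left hq 0, fun c _ => ?_⟩
  have : utv q (0 : Fin n → F) c (herm_zero_left hq 0) = 1 := by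
    apply gl_ext
    intro x
    rw [utv_mulVec]; simp
  rw [this]; exact M.one_mem

theorem ucentres_smul (hF : Fintype.card F = q ^ 2) {M : Subgroup (GL (Fin n) F)} {x : Fin n → F}
    (hx : x ∈ ucentres q M) (a : F) : a • x ∈ ucentres q M := by
  obtain ⟨hx0, hx⟩ := hx
  have h0 : H (a • x) (a • x) = 0 := by
    rw [hermForm_smul_left, hermForm_smul_right, hx0]; ring
  refine ⟨h0, fun c hc => ?_⟩
  rw [utv_smul x a c hx0 h0]
  apply hx
  rw [mul_pow, mul_pow, pow_q_pow_q hF]
  linear_combination (a * a ^ q) * hc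

theorem ucentres_mulVec {M : Subgroup (GL (Fin n) F)} (hM : M ≤ Cfsg.GU n F q)
    {g : GL (Fin n) F} (hg : g ∈ M) {x : Fin n → F} (hx : x ∈ ucentres q M) :
    (g : Matrix (Fin n) (Fin n) F) *ᵥ x ∈ ucentres q M := by
  obtain ⟨hx0, hx⟩ := hx
  have h0 : H ((g : Matrix (Fin n) (Fin n) F) *ᵥ x) ((g : Matrix (Fin n) (Fin n) F) *ᵥ x) = 0 := by
    rw [(mem_GU_iff g).mp (hM hg), hx0]
  refine ⟨h0, fun c hc => ?_⟩
  rw [← conj_utv (hM hg) x c hx0 h0]
  exact M.mul_mem (M.mul_mem hg (hx c hc)) (M.inv_mem hg)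

theorem ucentres_add (hF : Fintype.card F = q ^ 2) {M : Subgroup (GL (Fin n) F)}
    (hM : M ≤ Cfsg.GU n F q) {x y : Fin n → F} (hx : x ∈ ucentres q M) (hy : y ∈ ucentres q M)
    (hxy : H x y ≠ 0) (hs : H (x + y) (x + y) = 0) : x + y ∈ ucentres q M := by
  obtain ⟨hy0, hy'⟩ := hy
  have hx0 := hx.1
  have htr : H x y + (H x y) ^ q = 0 := by
    rw [hermForm_conj hF]
    simp only [hermForm_add_left, hermForm_add_right hF, hx0, hy0] at hs
    linear_combination hs
  have := ucentres_mulVec hM (hy' (H x y)⁻¹ (inv_trace_zero htr)) hx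
  rwa [utv_mulVec, inv_mul_cancel₀ hxy, one_smul] at this

/-- An overgroup in SU of the stabiliser of a totally isotropic subspace `W`, not stabilising `W`,
contains all unitary transvections. -/
theorem ucentres_of_totallySingular (hF : Fintype.card F = q ^ 2) (W : Submodule F (Fin n → F))
    (hW : Cfsg.Geo.IsTotallySingularFor (Cfsg.hermForm n F q) W)
    {M : Subgroup (GL (Fin n) F)} (hM : M ≤ Cfsg.GU n F q)
    (hP : Cfsg.Geo.subspaceStabilizer W ⊓ (Cfsg.GU n F q ⊓ Cfsg.Geo.specialLinear (Fin n) F) ≤ M)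
    {g : GL (Fin n) F} (hg : g ∈ M) (hgW : g ∉ Cfsg.Geo.subspaceStabilizer W) :
    ∀ z : Fin n → F, H z z = 0 → z ∈ ucentres q M := by
  have hq : q ≠ 0 := by have := q_pos hF; omega
  have hperp : ∀ z : Fin n → F, H z z = 0 → (∀ a ∈ W, H a z = 0) → z ∈ ucentres q M := by
    intro z hz0 hz
    refine ⟨hz0, fun c hc => hP ⟨tv_mem_stab_of_le_ker W _ _ _ (fun a ha => ?_), utv_mem_SU hF z c hz0 hc⟩⟩
    simp [hz a ha]
  obtain ⟨w₀, hw₀W, hgw⟩ : ∃ w ∈ W, (g : Matrix (Fin n) (Fin n) F) *ᵥ w ∉ W := by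
    by_contra hcon
    push Not at hcon
    exact hgW (mem_subspaceStabilizer_of_le W g hcon)
  have hWX : ∀ w ∈ W, w ∈ ucentres q M := fun w hw => hperp w (hW w hw w hw) (fun a ha => hW a ha w hw)
  -- a centre not orthogonal to W
  obtain ⟨x₀, w, hx₀X, hwW, hc₀⟩ : ∃ x₀ w : Fin n → F, x₀ ∈ ucentres q M ∧ w ∈ W ∧ H x₀ w ≠ 0 := by
    set y := (g : Matrix (Fin n) (Fin n) F) *ᵥ w₀ with hy
    have hyX : y ∈ ucentres q M := ucentres_mulVec hM hg (hWX w₀ hw₀W)
    by_cases hyW : ∀ a ∈ W, H a y = 0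
    · obtain ⟨z', hz'W, hz'1⟩ := exists_herm_perp_eq_one hF W hgw
      obtain ⟨l, hl⟩ := exists_isotropic_add hF hyX.1 (y := z') (by rw [hz'1]; exact one_ne_zero)
      have hzW : ∀ a ∈ W, H a (z' + l • y) = 0 := by
        intro a ha
        rw [hermForm_add_right hF, hermForm_smul_right, hz'W a ha, hyW a ha]; ring
      refine ⟨((g⁻¹ : GL (Fin n) F) : Matrix (Fin n) (Fin n) F) *ᵥ (z' + l • y), w₀,
        ucentres_mulVec hM (M.inv_mem hg) (hperp _ hl hzW), hw₀W, ?_⟩
      rw [← (mem_GU_iff g).mp (hM hg), gl_mulVec_inv]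
      apply herm_ne_zero_symm hF
      rw [hermForm_add_right hF, hermForm_smul_right, hz'1, hyX.1]
      simp
    · push Not at hyW
      obtain ⟨a, ha, hay⟩ := hyW
      exact ⟨y, a, hyX, ha, herm_ne_zero_symm hF hay⟩
  set c₀ := H x₀ w with hc₀def
  have hw0 : H w w = 0 := hW w hwW w hwW
  have hx₀0 : H x₀ x₀ = 0 := hx₀X.1
  have hc₀q : c₀ ^ q ≠ 0 := pow_ne_zero _ hc₀
  -- isotropic vectors with the same product with w
  have hstep : ∀ z : Fin n → F, H z z = 0 → H z w = c₀ → z ∈ ucentres q M := by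
    intro z hz0 hzw
    set a : Fin n → F := c₀⁻¹ • (z - x₀) with ha
    have hza : z = x₀ + c₀ • a := by
      rw [ha, smul_smul, mul_inv_cancel₀ hc₀, one_smul]; abel
    have haw : H a w = 0 := by
      rw [ha, hermForm_smul_left, herm_sub_left, hzw, ← hc₀def, sub_self, mul_zero]
    have hwa : H w a = 0 := herm_eq_zero_symm hF haw
    have hs : H x₀ a / c₀ + (H x₀ a / c₀) ^ q + H a a = 0 := by
      have h1 := hz0
      rw [hza] at h1
      simp only [hermForm_add_left, hermForm_add_right hF, hermForm_smul_left, hermForm_smul_right,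
        hx₀0] at h1
      rw [div_pow, hermForm_conj hF]
      field_simp
      linear_combination h1
    have hE : ueich q w a (H x₀ a / c₀) hw0 haw hwa ∈ M := by
      refine hP ⟨mem_subspaceStabilizer_of_le W _ (fun v hv => ?_),
        ueich_mem_GU hF w a _ hw0 haw hwa hs, ueich_mem_SL w a _ hw0 haw hwa⟩
      rw [ueich_mulVec, hW v hv w hwW, zero_smul, add_zero]
      exact W.add_mem hv (W.smul_mem _ hwW)
    have h2 := ucentres_mulVec hM hE hx₀X
    rw [ueich_mulVec, ← hc₀def, div_mul_cancel₀ _ hc₀, sub_self, zero_smul, add_zero, ← hza] at h2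
    exact h2
  have hstep2 : ∀ z : Fin n → F, H z z = 0 → H z w ≠ 0 → z ∈ ucentres q M := by
    intro z hz0 hzw
    have h1 : (c₀ / H z w) • z ∈ ucentres q M := by
      apply hstep
      · rw [hermForm_smul_left, hermForm_smul_right, hz0]; ring
      · rw [hermForm_smul_left, div_mul_cancel₀ _ hzw]
    have h2 := ucentres_smul hF h1 (H z w / c₀)
    rwa [smul_smul, div_mul_div_cancel₀ hc₀, div_self hzw, one_smul] at h2
  have hwne : w ≠ 0 := by
    rintro rfl
    exact hc₀ (herm_zero_right hq x₀)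
  intro z hz0
  by_cases hzw : H z w = 0
  · by_cases hzne : z = 0
    · rw [hzne]; exact ucentres_zero hF M
    obtain ⟨y₁, -, hy₁w, hy₁z⟩ := exists_both_ne_zero (⊤ : Submodule F (Fin n → F))
      (hermDual n q w) (hermDual n q z)
      (by obtain ⟨y, hy⟩ := exists_herm_ne_zero hF hwne; exact ⟨y, trivial, hy⟩)
      (by obtain ⟨y, hy⟩ := exists_herm_ne_zero hF hzne; exact ⟨y, trivial, hy⟩)
    rw [hermDual_apply] at hy₁w hy₁z
    obtain ⟨θ, hθ0, hθ⟩ := exists_trace_zero hF
    set y₂ : Fin n → F := (θ / H y₁ z) • y₁ with hy₂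
    have hy₂z : H y₂ z = θ := by rw [hy₂, hermForm_smul_left, div_mul_cancel₀ _ hy₁z]
    have hy₂w : H y₂ w ≠ 0 := by
      rw [hy₂, hermForm_smul_left]
      exact mul_ne_zero (div_ne_zero hθ0 hy₁z) hy₁w
    obtain ⟨l, hl⟩ := exists_isotropic_add hF hw0 (y := y₂) (herm_ne_zero_symm hF hy₂w)
    set x : Fin n → F := y₂ + l • w with hx
    have hxw : H x w ≠ 0 := by
      rw [hx, hermForm_add_left, hermForm_smul_left l w w, hw0, mul_zero, add_zero]; exact hy₂w
    have hxz : H x z = θ := by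
      rw [hx, hermForm_add_left, hermForm_smul_left l w z, herm_eq_zero_symm hF hzw, mul_zero,
        add_zero, hy₂z]
    have hzx : H z x = θ ^ q := by rw [← hxz, hermForm_conj hF]
    have hxX : x ∈ ucentres q M := hstep2 x hl hxw
    have hzx0 : H (z - x) (z - x) = 0 := by
      simp only [herm_sub_left, herm_sub_right hF, hz0, hl, hxz, hzx]
      linear_combination -hθ
    have hzxX : z - x ∈ ucentres q M := by
      apply hstep2 _ hzx0
      rw [herm_sub_left, hzw, zero_sub]
      exact neg_ne_zero.mpr hxw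
    have h3 := ucentres_add hF hM hxX hzxX
      (by rw [herm_sub_right hF, hxz, hl, sub_zero]; exact hθ0)
      (by rw [add_sub_cancel]; exact hz0)
    rwa [add_sub_cancel] at h3
  · exact hstep2 z hz0 hzw

/-- Moving an isotropic vector to a multiple of another one by a unitary transvection. -/
theorem umove (hF : Fintype.card F = q ^ 2) (M : Subgroup (GL (Fin n) F))
    (hM : ∀ (v : Fin n → F) (c : F) (hv : H v v = 0), c + c ^ q = 0 → utv q v c hv ∈ M)
    {a b : Fin n → F} (ha : H a a = 0) (hb : H b b = 0) (hab : H a b ≠ 0) :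
    ∃ t ∈ M, ∃ l : F, l ≠ 0 ∧ (t : Matrix (Fin n) (Fin n) F) *ᵥ a = l • b ∧
      ∀ x : Fin n → F, H x a = 0 → H x b = 0 → (t : Matrix (Fin n) (Fin n) F) *ᵥ x = x := by
  obtain ⟨θ, hθ0, hθ⟩ := exists_trace_zero hF
  set l : F := (θ / H a b) ^ q with hl
  have hlq : l ^ q = θ / H a b := by rw [hl, pow_q_pow_q hF]
  have hl0 : l ≠ 0 := pow_ne_zero _ (div_ne_zero hθ0 hab)
  have hab' : H a (l • b) = θ := by rw [hermForm_smul_right, hlq, div_mul_cancel₀ _ hab]
  have hba' : H (l • b) a = θ ^ q := by rw [← hab', hermForm_conj hF]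
  have hb' : H (l • b) (l • b) = 0 := by
    rw [hermForm_smul_left, hermForm_smul_right, hb]; ring
  have hv : H (l • b - a) (l • b - a) = 0 := by
    simp only [herm_sub_left, herm_sub_right hF, hb', ha, hab', hba']
    linear_combination -hθ
  refine ⟨utv q (l • b - a) θ⁻¹ hv, hM _ _ _ (inv_trace_zero hθ), l, hl0, ?_, ?_⟩
  · rw [utv_mulVec, herm_sub_right hF, hab', ha, sub_zero, inv_mul_cancel₀ hθ0, one_smul]
    abel
  · intro x hxa hxb
    rw [utv_mulVec, herm_sub_right hF, hermForm_smul_right, hxa, hxb]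
    simp

/-- A subgroup of GU containing all unitary transvections is transitive on the totally isotropic
subspaces of a given dimension. -/
theorem exists_mem_glMap_eq_unitary_aux (hF : Fintype.card F = q ^ 2) (M : Subgroup (GL (Fin n) F))
    (hMU : M ≤ Cfsg.GU n F q)
    (hM : ∀ (v : Fin n → F) (c : F) (hv : H v v = 0), c + c ^ q = 0 → utv q v c hv ∈ M)
    (W₂ : Submodule F (Fin n → F)) (hW₂ : Cfsg.Geo.IsTotallySingularFor (Cfsg.hermForm n F q) W₂) :
    ∀ (d : ℕ) (W₁ : Submodule F (Fin n → F)), Cfsg.Geo.IsTotallySingularFor (Cfsg.hermForm n F q) W₁ →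
      finrank F W₁ = finrank F W₂ →
      finrank F W₂ - finrank F (W₁ ⊓ W₂ : Submodule F (Fin n → F)) ≤ d → ∃ t ∈ M, glMap t W₁ = W₂ := by
  intro d
  induction d with
  | zero =>
    intro W₁ _ hd h0
    refine ⟨1, M.one_mem, ?_⟩
    rw [glMap_one]
    have h1 : W₁ ⊓ W₂ = W₂ :=
      Submodule.eq_of_le_of_finrank_le inf_le_right (by omega)
    have h2 : W₂ ≤ W₁ := by rw [← h1]; exact inf_le_left
    exact (Submodule.eq_of_le_of_finrank_eq h2 hd.symm).symm
  | succ d ih =>
    intro W₁ hW₁ hd hle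
    by_cases h12 : W₁ ≤ W₂
    · exact ⟨1, M.one_mem, by rw [glMap_one]; exact Submodule.eq_of_le_of_finrank_eq h12 hd⟩
    have h21 : ¬ W₂ ≤ W₁ := fun h => h12 (Submodule.eq_of_le_of_finrank_eq h hd.symm).ge
    obtain ⟨a, ha1, ha2⟩ := SetLike.not_le_iff_exists.mp h12
    obtain ⟨b, hb2, hb1⟩ := SetLike.not_le_iff_exists.mp h21
    have ha0 : H a a = 0 := hW₁ a ha1 a ha1
    have hb0 : H b b = 0 := hW₂ b hb2 b hb2
    -- an element of M fixing W₁ ⊓ W₂ pointwise and mapping a to a multiple of b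
    obtain ⟨t, htM, l, hl0, hta, hfix⟩ : ∃ t ∈ M, ∃ l : F, l ≠ 0 ∧
        (t : Matrix (Fin n) (Fin n) F) *ᵥ a = l • b ∧
        ∀ x ∈ W₁ ⊓ W₂, (t : Matrix (Fin n) (Fin n) F) *ᵥ x = x := by
      by_cases hab : H a b = 0
      · -- go through an intermediate isotropic vector
        let S : Submodule F (Fin n → F) :=
          { carrier := {y | ∀ x ∈ W₁ ⊓ W₂, H y x = 0}
            add_mem' := by
              intro y y' hy hy' x hx
              rw [hermForm_add_left, hy x hx, hy' x hx, add_zero]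
            zero_mem' := by
              intro x _
              exact herm_zero_left (by have := q_pos hF; omega) x
            smul_mem' := by
              intro c y hy x hx
              rw [hermForm_smul_left, hy x hx, mul_zero] }
        obtain ⟨y, hyS, hya, hyb⟩ := exists_both_ne_zero S (hermDual n q a) (hermDual n q b)
          (by
            obtain ⟨z, hzA, hz1⟩ := exists_herm_perp_eq_one hF (W₁ ⊓ W₂) (fun h => ha2 h.2)
            exact ⟨z, fun x hx => herm_eq_zero_symm hF (hzA x hx),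
              herm_ne_zero_symm hF (by rw [hz1]; exact one_ne_zero)⟩)
          (by
            obtain ⟨z, hzA, hz1⟩ := exists_herm_perp_eq_one hF (W₁ ⊓ W₂) (fun h => hb1 h.1)
            exact ⟨z, fun x hx => herm_eq_zero_symm hF (hzA x hx),
              herm_ne_zero_symm hF (by rw [hz1]; exact one_ne_zero)⟩)
        rw [hermDual_apply] at hya hyb
        obtain ⟨k, hk⟩ := exists_isotropic_add hF ha0 (y := y) (herm_ne_zero_symm hF hya)
        set z : Fin n → F := y + k • a with hz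
        have hzA : ∀ x ∈ W₁ ⊓ W₂, H x z = 0 := by
          intro x hx
          apply herm_eq_zero_symm hF
          rw [hz, hermForm_add_left, hermForm_smul_left, hyS x hx, hW₁ a ha1 x hx.1]; ring
        have hza : H z a ≠ 0 := by
          rw [hz, hermForm_add_left, hermForm_smul_left, ha0, mul_zero, add_zero]; exact hya
        have hzb : H z b ≠ 0 := by
          rw [hz, hermForm_add_left, hermForm_smul_left, hab, mul_zero, add_zero]; exact hyb
        obtain ⟨t₁, ht₁, l₁, hl₁, ht₁a, hfix₁⟩ := umove hF M hM ha0 hk (herm_ne_zero_symm hF hza)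
        have hlz0 : H (l₁ • z) (l₁ • z) = 0 := by
          rw [hermForm_smul_left, hermForm_smul_right, hk]; ring
        obtain ⟨t₂, ht₂, l₂, hl₂, ht₂a, hfix₂⟩ := umove hF M hM hlz0 hb0
          (by rw [hermForm_smul_left]; exact mul_ne_zero hl₁ hzb)
        refine ⟨t₂ * t₁, M.mul_mem ht₂ ht₁, l₂, hl₂, ?_, ?_⟩
        · rw [gl_mul_mulVec, ht₁a, ht₂a]
        · intro x hx
          rw [gl_mul_mulVec, hfix₁ x (hW₁ x hx.1 a ha1) (hzA x hx),
            hfix₂ x (by rw [hermForm_smul_right, hzA x hx, mul_zero]) (hW₂ x hx.2 b hb2)]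
      · obtain ⟨t, ht, l, hl, hta, hfix⟩ := umove hF M hM ha0 hb0 hab
        exact ⟨t, ht, l, hl, hta, fun x hx => hfix x (hW₁ x hx.1 a ha1) (hW₂ x hx.2 b hb2)⟩
    have hlt : W₁ ⊓ W₂ < glMap t W₁ ⊓ W₂ := by
      refine lt_of_le_of_ne ?_ ?_
      · intro x hx
        refine ⟨?_, hx.2⟩
        rw [← hfix x hx]
        exact mulVec_mem_glMap t W₁ hx.1
      · intro heq
        have hb : l • b ∈ glMap t W₁ ⊓ W₂ :=
          ⟨by rw [← hta]; exact mulVec_mem_glMap t W₁ ha1, W₂.smul_mem _ hb2⟩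
        rw [← heq] at hb
        have := W₁.smul_mem l⁻¹ hb.1
        rw [smul_smul, inv_mul_cancel₀ hl0, one_smul] at this
        exact hb1 this
    have hlt' := Submodule.finrank_lt_finrank_of_lt hlt
    have hts : Cfsg.Geo.IsTotallySingularFor (Cfsg.hermForm n F q) (glMap t W₁) := by
      intro u hu v hv
      rw [mem_glMap] at hu hv
      rw [← (mem_GU_iff t⁻¹).mp ((Cfsg.GU n F q).inv_mem (hMU htM))]
      exact hW₁ _ hu _ hv
    obtain ⟨t', ht', h'⟩ := ih (glMap t W₁) hts (by rw [finrank_glMap, hd]) (by omega)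
    exact ⟨t' * t, M.mul_mem ht' htM, by rw [glMap_mul, h']⟩

/-- The stabiliser in SU of a non-zero totally isotropic subspace is maximal. -/
theorem su_stab_isMaximalIn_of_totallySingular (hF : Fintype.card F = q ^ 2)
    (W : Submodule F (Fin n → F)) (hW0 : W ≠ ⊥)
    (hW : Cfsg.Geo.IsTotallySingularFor (Cfsg.hermForm n F q) W) :
    Cfsg.Geo.IsMaximalIn (Cfsg.GU n F q ⊓ Cfsg.Geo.specialLinear (Fin n) F)
      (Cfsg.Geo.subspaceStabilizer W ⊓ (Cfsg.GU n F q ⊓ Cfsg.Geo.specialLinear (Fin n) F)) := by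
  refine ⟨lt_of_le_of_ne inf_le_right ?_, ?_⟩
  · intro heq
    obtain ⟨w, hw, hw0⟩ := Submodule.exists_mem_ne_zero_of_ne_bot hW0
    obtain ⟨y, hy⟩ := exists_herm_ne_zero hF hw0
    obtain ⟨l, hl⟩ := exists_isotropic_add hF (hW w hw w hw) (y := y) (herm_ne_zero_symm hF hy)
    obtain ⟨θ, hθ0, hθ⟩ := exists_trace_zero hF
    have hxw : H w (y + l • w) ≠ 0 := by
      rw [hermForm_add_right hF, hermForm_smul_right, hW w hw w hw, mul_zero, add_zero]
      exact herm_ne_zero_symm hF hy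
    have h1 := utv_mem_SU hF (y + l • w) θ hl hθ
    rw [← heq] at h1
    have h2 := ((mem_subspaceStabilizer_iff W _).mp h1.1 w).mp hw
    rw [utv_mulVec] at h2
    have h3 := (W.add_mem_iff_right hw).mp h2
    have h4 := W.smul_mem (θ * H w (y + l • w))⁻¹ h3
    rw [smul_smul, inv_mul_cancel₀ (mul_ne_zero hθ0 hxw), one_smul] at h4
    exact hxw (hW w hw _ h4)
  · intro M hPM hMS
    by_cases hMP : M ≤ Cfsg.Geo.subspaceStabilizer W
    · left
      exact le_antisymm (le_inf hMP hMS) hPM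
    · right
      obtain ⟨g, hg, hgW⟩ := SetLike.not_le_iff_exists.mp hMP
      have hMU : M ≤ Cfsg.GU n F q := hMS.trans inf_le_left
      have hall := ucentres_of_totallySingular hF W hW hMU hPM hg hgW
      have htv : ∀ (v : Fin n → F) (c : F) (hv : H v v = 0), c + c ^ q = 0 → utv q v c hv ∈ M :=
        fun v c hv hc => (hall v hv).2 c hc
      refine le_antisymm hMS ?_
      intro x hx
      have hts : Cfsg.Geo.IsTotallySingularFor (Cfsg.hermForm n F q) (glMap x W) := by
        intro u hu v hv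
        rw [mem_glMap] at hu hv
        rw [← (mem_GU_iff x⁻¹).mp ((Cfsg.GU n F q).inv_mem hx.1)]
        exact hW _ hu _ hv
      obtain ⟨t, ht, htW⟩ := exists_mem_glMap_eq_unitary_aux hF M hMU htv (glMap x W) hts _ W hW
        (finrank_glMap x W).symm le_rfl
      have h1 : t⁻¹ * x ∈ Cfsg.Geo.subspaceStabilizer W := by
        rw [mem_subspaceStabilizer_iff_glMap, glMap_mul, ← htW, ← glMap_mul, inv_mul_cancel,
          glMap_one]
      have h2 : t⁻¹ * x ∈ M :=
        hPM ⟨h1, (Cfsg.GU n F q ⊓ Cfsg.Geo.specialLinear (Fin n) F).mul_mem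
          ((Cfsg.GU n F q ⊓ Cfsg.Geo.specialLinear (Fin n) F).inv_mem (hMS ht)) hx⟩
      have := M.mul_mem ht h2
      rwa [mul_inv_cancel_left] at this

end Cfsg.Agent.Lib.Helper29
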