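import Mathlib
import Cfsg.Prelude.Def_GeometricClasses
import Cfsg.Agent.Lib.Helper29.SuParabolic

/-!
Unitary Eichler transformations are products of unitary transvections.
-/

set_option autoImplicit false

namespace Cfsg.Agent.Lib.Helper29

open Matrix Module
open Cfsg.Agent.H6 (add_pow_q pow_q_pow_q neg_pow_q sub_pow_q q_pos hermForm_add_left
  hermForm_smul_left hermForm_smul_right hermForm_add_right hermForm_conj)

variable {F : Type*} [Field F] [Fintype F] {n q : ℕ}

local notation "H" => Cfsg.hermForm n F q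

theorem umove1 (hF : Fintype.card F = q ^ 2) (M : Subgroup (GL (Fin n) F))
    (hM : ∀ (v : Fin n → F) (c : F) (hv : H v v = 0), c + c ^ q = 0 → utv q v c hv ∈ M)
    {x y : Fin n → F} (hx : H x x = 0) (hy : H y y = 0) (hxy : H x y ≠ 0)
    (htr : H x y + (H x y) ^ q = 0) :
    ∃ t ∈ M, (t : Matrix (Fin n) (Fin n) F) *ᵥ x = y ∧
      ∀ z : Fin n → F, H z x = 0 → H z y = 0 → (t : Matrix (Fin n) (Fin n) F) *ᵥ z = z := by
  have hyx : H y x = (H x y) ^ q := (hermForm_conj hF x y).symm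
  have hv : H (y - x) (y - x) = 0 := by
    simp only [herm_sub_left, herm_sub_right hF, hx, hy, hyx]
    linear_combination -htr
  refine ⟨utv q (y - x) (H x y)⁻¹ hv, hM _ _ _ (inv_trace_zero htr), ?_, ?_⟩
  · rw [utv_mulVec, herm_sub_right hF, hx, sub_zero, inv_mul_cancel₀ hxy, one_smul]; abel
  · intro z h1 h2
    rw [utv_mulVec, herm_sub_right hF, h1, h2]; simp

theorem ueich_mul (hF : Fintype.card F = q ^ 2) {w a a' : Fin n → F} (s s' : F) (hw : H w w = 0)
    (haw : H a w = 0) (hwa : H w a = 0) (haw' : H a' w = 0) (hwa' : H w a' = 0)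
    (h1 : H (a + a') w = 0) (h2 : H w (a + a') = 0) :
    ueich q w a s hw haw hwa * ueich q w a' s' hw haw' hwa'
      = ueich q w (a + a') (s + s' - H a' a) hw h1 h2 := by
  apply gl_ext
  intro x
  rw [gl_mul_mulVec, ueich_mulVec, ueich_mulVec, ueich_mulVec]
  simp only [hermForm_add_left, hermForm_smul_left, hermForm_add_right hF, hw, haw', hwa]
  module

theorem ueich_mem_of_isotropic (hF : Fintype.card F = q ^ 2) (M : Subgroup (GL (Fin n) F))
    (hM : ∀ (v : Fin n → F) (c : F) (hv : H v v = 0), c + c ^ q = 0 → utv q v c hv ∈ M)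
    {w a : Fin n → F} (hw : H w w = 0) (haw : H a w = 0) (hwa : H w a = 0) (ha : H a a = 0)
    (s : F) (hs : s + s ^ q = 0) : ueich q w a s hw haw hwa ∈ M := by
  obtain ⟨c, hc0, hc⟩ := exists_trace_zero hF
  obtain ⟨a₁, rfl⟩ : ∃ a₁, a = c • a₁ :=
    ⟨c⁻¹ • a, by rw [smul_smul, mul_inv_cancel₀ hc0, one_smul]⟩
  have hcq0 : c ^ q ≠ 0 := pow_ne_zero _ hc0
  have hcq : c ^ q = -c := by linear_combination hc
  have h1 : H a₁ w = 0 := by
    rw [hermForm_smul_left] at haw
    exact (mul_eq_zero.mp haw).resolve_left hc0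
  have h2 : H w a₁ = 0 := herm_eq_zero_symm hF h1
  have h3 : H a₁ a₁ = 0 := by
    rw [hermForm_smul_left, hermForm_smul_right] at ha
    exact (mul_eq_zero.mp ((mul_eq_zero.mp ha).resolve_left hc0)).resolve_left hcq0
  have h4 : H (a₁ + w) (a₁ + w) = 0 := by
    simp only [hermForm_add_left, hermForm_add_right hF, h1, h2, h3, hw]; ring
  have key : ueich q w (c • a₁) s hw haw hwa
      = utv q a₁ (-c) h3 * utv q (a₁ + w) c h4 * utv q w (s - c) hw := by
    apply gl_ext
    intro x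
    rw [gl_mul_mulVec, gl_mul_mulVec, utv_mulVec, utv_mulVec, utv_mulVec, ueich_mulVec]
    simp only [hermForm_add_left, hermForm_smul_left, hermForm_add_right hF, hermForm_smul_right,
      hw, h1, h2, h3, hcq]
    module
  rw [key]
  refine M.mul_mem (M.mul_mem (hM _ _ _ ?_) (hM _ _ _ hc)) (hM _ _ _ ?_)
  · rw [neg_pow_q hF]; linear_combination -hc
  · rw [sub_pow_q hF]; linear_combination hs - hc

theorem ueich_mem_add (hF : Fintype.card F = q ^ 2) (M : Subgroup (GL (Fin n) F))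
    {w a a' : Fin n → F} (hw : H w w = 0) (haw : H a w = 0) (haw' : H a' w = 0)
    (h : ∀ (h1 : H a w = 0) (h2 : H w a = 0) (s : F), s + s ^ q + H a a = 0 →
      ueich q w a s hw h1 h2 ∈ M)
    (h' : ∀ (h1 : H a' w = 0) (h2 : H w a' = 0) (s : F), s + s ^ q + H a' a' = 0 →
      ueich q w a' s hw h1 h2 ∈ M) :
    ∀ (h1 : H (a + a') w = 0) (h2 : H w (a + a') = 0) (s : F),
      s + s ^ q + H (a + a') (a + a') = 0 → ueich q w (a + a') s hw h1 h2 ∈ M := by
  intro h1 h2 s'' hs''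
  obtain ⟨s, hs⟩ := exists_trace_eq hF (- H a a) (by rw [neg_pow_q hF, herm_self_pow hF])
  have hwa := herm_eq_zero_symm hF haw
  have hwa' := herm_eq_zero_symm hF haw'
  have key := ueich_mul hF s (s'' - s + H a' a) hw haw hwa haw' hwa' h1 h2
  have e : s + (s'' - s + H a' a) - H a' a = s'' := by ring
  rw [e] at key
  rw [← key]
  refine M.mul_mem (h _ _ s (by rw [hs]; ring)) (h' _ _ _ ?_)
  rw [add_pow_q hF, sub_pow_q hF, hermForm_conj hF]
  simp only [hermForm_add_left, hermForm_add_right hF] at hs''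
  linear_combination hs'' - hs

theorem ueich_mem_general (hF : Fintype.card F = q ^ 2) (M : Subgroup (GL (Fin n) F))
    (hM : ∀ (v : Fin n → F) (c : F) (hv : H v v = 0), c + c ^ q = 0 → utv q v c hv ∈ M)
    {w a : Fin n → F} (hw : H w w = 0) (haw : H a w = 0) (hwa : H w a = 0)
    (hcond : H a a = 0 ∨ ∃ c : Fin n → F, H c c = 0 ∧ H c w = 0 ∧ H c a ≠ 0)
    (s : F) (hs : s + s ^ q + H a a = 0) : ueich q w a s hw haw hwa ∈ M := by
  rcases hcond with ha | ⟨c, hc, hcw, hca⟩
  · exact ueich_mem_of_isotropic hF M hM hw haw hwa ha s (by rw [ha, add_zero] at hs; exact hs)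
  · obtain ⟨l, hl⟩ := exists_isotropic_add hF hc hca
    obtain ⟨a₂, rfl, ha₂⟩ : ∃ a₂, a = a₂ + (-l) • c ∧ H a₂ a₂ = 0 :=
      ⟨a + l • c, by module, hl⟩
    have hlc : H ((-l) • c) ((-l) • c) = 0 := by
      rw [hermForm_smul_left, hermForm_smul_right, hc]; ring
    have hlcw : H ((-l) • c) w = 0 := by rw [hermForm_smul_left, hcw, mul_zero]
    have ha₂w : H a₂ w = 0 := by
      rw [hermForm_add_left, hlcw, add_zero] at haw
      exact haw
    exact ueich_mem_add hF M hw ha₂w hlcw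
      (fun h1 h2 s hs => ueich_mem_of_isotropic hF M hM hw h1 h2 ha₂ s
        (by rw [ha₂, add_zero] at hs; exact hs))
      (fun h1 h2 s hs => ueich_mem_of_isotropic hF M hM hw h1 h2 hlc s
        (by rw [hlc, add_zero] at hs; exact hs)) haw hwa s hs

/-- Moving `y` to `y'` fixing `w`. -/
theorem ufix (hF : Fintype.card F = q ^ 2) (M : Subgroup (GL (Fin n) F))
    (hM : ∀ (v : Fin n → F) (c : F) (hv : H v v = 0), c + c ^ q = 0 → utv q v c hv ∈ M)
    {w y y' : Fin n → F} (hw : H w w = 0) (hy : H y y = 0) (hy' : H y' y' = 0) (hyw : H y w ≠ 0)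
    (hyy : H y' w = H y w)
    (hcond : ∀ a : Fin n → F, H a w = 0 →
      H a a = 0 ∨ ∃ c : Fin n → F, H c c = 0 ∧ H c w = 0 ∧ H c a ≠ 0) :
    ∃ t ∈ M, (t : Matrix (Fin n) (Fin n) F) *ᵥ w = w ∧ (t : Matrix (Fin n) (Fin n) F) *ᵥ y = y' ∧
      ∀ z : Fin n → F, H z w = 0 → H z y = 0 → H z y' = 0 →
        (t : Matrix (Fin n) (Fin n) F) *ᵥ z = z := by
  set c₀ := H y w with hc₀def
  have hc₀q : c₀ ^ q ≠ 0 := pow_ne_zero _ hyw
  set a : Fin n → F := c₀⁻¹ • (y' - y) with ha
  have hza : y' = y + c₀ • a := by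
    rw [ha, smul_smul, mul_inv_cancel₀ hyw, one_smul]; abel
  have haw : H a w = 0 := by
    rw [ha, hermForm_smul_left, herm_sub_left, hyy, ← hc₀def, sub_self, mul_zero]
  have hwa : H w a = 0 := herm_eq_zero_symm hF haw
  have hs : H y a / c₀ + (H y a / c₀) ^ q + H a a = 0 := by
    have h1 := hy'
    rw [hza] at h1
    simp only [hermForm_add_left, hermForm_add_right hF, hermForm_smul_left, hermForm_smul_right,
      hy] at h1
    rw [div_pow, hermForm_conj hF]
    field_simp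
    linear_combination h1
  refine ⟨ueich q w a (H y a / c₀) hw haw hwa,
    ueich_mem_general hF M hM hw haw hwa (hcond a haw) _ hs, ?_, ?_, ?_⟩
  · rw [ueich_mulVec, hw, hwa]; simp
  · rw [ueich_mulVec, ← hc₀def, div_mul_cancel₀ _ hyw, sub_self, zero_smul, add_zero, ← hza]
  · intro z h1 h2 h3
    have h4 : H z a = 0 := by
      rw [ha, hermForm_smul_right, herm_sub_right hF, h2, h3]; ring
    rw [ueich_mulVec, h1, h4]; simp

end Cfsg.Agent.Lib.Helper29
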