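import Mathlib
import Cfsg.Prelude.Def_GeometricClasses
import Cfsg.Agent.Lib.Helper29.SuBasic
import Cfsg.Agent.S0754

/-!
Existence of vectors of prescribed norm orthogonal to a few given vectors, for the Hermitian form
`Cfsg.hermForm n F q`.
-/

set_option autoImplicit false

namespace Cfsg.Agent.Lib.Helper29

open Matrix Module
open Cfsg.Agent.H6 (add_pow_q pow_q_pow_q neg_pow_q sub_pow_q q_pos hermForm_add_left
  hermForm_smul_left hermForm_smul_right hermForm_add_right hermForm_conj)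

variable {F : Type*} [Field F] [Fintype F] {n q : ℕ}

local notation "H" => Cfsg.hermForm n F q

theorem exists_norm_eq (hF : Fintype.card F = q ^ 2) (r : F) (hr : r ^ q = r) :
    ∃ l : F, l * l ^ q = r := by
  by_cases h0 : r = 0
  · refine ⟨0, ?_⟩
    rw [h0, zero_mul]
  · have h := Cfsg.Agent.S0754.result hF r h0 hr
    have hne : Nonempty {x : F // x ^ (q + 1) = r} := by
      by_contra hcon
      rw [not_nonempty_iff] at hcon
      rw [Nat.card_of_isEmpty] at h
      omega
    obtain ⟨l, hl⟩ := hne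
    exact ⟨l, by rw [← hl]; ring⟩

omit [Fintype F] in
/-- The joint kernel of `k` functionals `H · (a i)` has dimension at least `n - k`. -/
theorem exists_perp_notMem {k : ℕ} (a : Fin k → (Fin n → F)) (A : Submodule F (Fin n → F))
    (hA : finrank F A + k < n) : ∃ z : Fin n → F, (∀ i, H z (a i) = 0) ∧ z ∉ A := by
  let Ψ : (Fin n → F) →ₗ[F] (Fin k → F) := LinearMap.pi (fun i => hermDual n q (a i))
  have h1 := LinearMap.finrank_range_add_finrank_ker Ψ
  have h2 : finrank F (LinearMap.range Ψ) ≤ k := by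
    calc _ ≤ finrank F (Fin k → F) := Submodule.finrank_le _
      _ = k := by simp
  rw [Module.finrank_fintype_fun_eq_card, Fintype.card_fin] at h1
  have h3 : ¬ LinearMap.ker Ψ ≤ A := fun h => by
    have := Submodule.finrank_mono h
    omega
  obtain ⟨z, hz, hzA⟩ := SetLike.not_le_iff_exists.mp h3
  refine ⟨z, fun i => ?_, hzA⟩
  have : Ψ z = 0 := hz
  exact congrFun this i

theorem exists_nonisotropic (hF : Fintype.card F = q ^ 2) {k : ℕ} (a : Fin k → (Fin n → F))
    (hk : 2 * k < n) : ∃ b : Fin n → F, (∀ i, H b (a i) = 0) ∧ H b b ≠ 0 := by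
  have hfin : finrank F (Submodule.span F (Set.range a)) ≤ k := by
    have := finrank_range_le_card (R := F) a
    rw [Fintype.card_fin] at this
    exact this
  obtain ⟨a₀, ha₀, hnot⟩ := exists_perp_notMem (q := q) a (Submodule.span F (Set.range a))
    (by omega)
  obtain ⟨z, hz, hz1⟩ := exists_herm_perp_eq_one hF _ hnot
  have hz' : ∀ i, H z (a i) = 0 := fun i =>
    herm_eq_zero_symm hF (hz _ (Submodule.subset_span ⟨i, rfl⟩))
  by_cases h1 : H a₀ a₀ = 0
  · by_cases h2 : H z z = 0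
    · obtain ⟨μ, hμ⟩ := exists_trace_eq hF 1 (one_pow q)
      refine ⟨a₀ + (μ ^ q) • z, fun i => ?_, ?_⟩
      · rw [hermForm_add_left, hermForm_smul_left, ha₀ i, hz' i]; simp
      · have hz1' : H z a₀ = 1 := by rw [← hermForm_conj hF, hz1, one_pow]
        simp only [hermForm_add_left, hermForm_add_right hF, hermForm_smul_left,
          hermForm_smul_right, h1, h2, hz1, hz1', pow_q_pow_q hF]
        have : (0 : F) + μ ^ q * 1 + μ * (1 + μ ^ q * 0) = μ + μ ^ q := by ring
        rw [this, hμ]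
        exact one_ne_zero
    · exact ⟨z, hz', h2⟩
  · exact ⟨a₀, ha₀, h1⟩

theorem exists_norm_perp (hF : Fintype.card F = q ^ 2) {k : ℕ} (a : Fin k → (Fin n → F))
    (hk : 2 * k < n) (r : F) (hr : r ^ q = r) :
    ∃ b : Fin n → F, (∀ i, H b (a i) = 0) ∧ H b b = r := by
  obtain ⟨b, hb, hbb⟩ := exists_nonisotropic hF a hk
  obtain ⟨l, hl⟩ := exists_norm_eq hF (r / H b b) (by rw [div_pow, hr, herm_self_pow hF])
  refine ⟨l • b, fun i => by rw [hermForm_smul_left, hb i, mul_zero], ?_⟩
  rw [hermForm_smul_left, hermForm_smul_right, ← mul_assoc, hl, div_mul_cancel₀ _ hbb]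

theorem exists_isotropic_perp (hF : Fintype.card F = q ^ 2) {k : ℕ} (a : Fin k → (Fin n → F))
    (hk : 2 * (k + 1) < n) :
    ∃ z : Fin n → F, z ≠ 0 ∧ (∀ i, H z (a i) = 0) ∧ H z z = 0 := by
  have hq : q ≠ 0 := by have := q_pos hF; omega
  obtain ⟨b₁, hb₁, hbb₁⟩ := exists_nonisotropic hF a (by omega)
  obtain ⟨b₂, hb₂, hbb₂⟩ := exists_norm_perp hF (Fin.cons b₁ a : Fin (k + 1) → (Fin n → F)) hk
    (- H b₁ b₁) (by rw [neg_pow_q hF, herm_self_pow hF])
  have h21 : H b₂ b₁ = 0 := by simpa using hb₂ 0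
  have h12 : H b₁ b₂ = 0 := herm_eq_zero_symm hF h21
  have h2a : ∀ i, H b₂ (a i) = 0 := fun i => by simpa using hb₂ i.succ
  refine ⟨b₁ + b₂, ?_, fun i => ?_, ?_⟩
  · intro h0
    apply hbb₁
    have : H (b₁ + b₂) b₁ = 0 := by rw [h0, herm_zero_left hq]
    rwa [hermForm_add_left, h21, add_zero] at this
  · rw [hermForm_add_left, hb₁ i, h2a i, add_zero]
  · simp only [hermForm_add_left, hermForm_add_right hF, h12, h21, hbb₂]
    ring

end Cfsg.Agent.Lib.Helper29
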