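import Mathlib
import Cfsg.Agent.Lib.Helper29.SuGeom
import Cfsg.Agent.Lib.Helper29.SpInSU2

/-!
`SU_n(q)` is generated by the unitary transvections (`n ≥ 5`).
-/

set_option autoImplicit false
set_option linter.unusedSectionVars false
set_option linter.unusedSimpArgs false

namespace Cfsg.Agent.Lib.Helper29

open Matrix Module Cfsg.Agent.H6

variable {F : Type*} [Field F] [Fintype F] {n q : ℕ}

local notation "H" => Cfsg.hermForm n F q
local notation "Vn" => (Fin n → F)

theorem uref_aux (a : Vn) (c c' : F) (h : c + c' + c * c' * H a a = 0) :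
    (LinearMap.transvection (c • hermDual n q a) a) ∘ₗ (LinearMap.transvection (c' • hermDual n q a) a)
      = LinearMap.id := by
  apply LinearMap.ext; intro x
  simp only [LinearMap.comp_apply, LinearMap.transvection.apply, LinearMap.smul_apply, hermDual_apply,
    hermForm_add_left, hermForm_smul_left, smul_eq_mul, LinearMap.id_apply]
  have : x + (c' * H x a) • a + (c * (H x a + c' * H x a * H a a)) • a
      = x + ((c + c' + c * c' * H a a) * H x a) • a := by module
  rw [this, h]; simp

/-- the map `x ↦ x + c * H x a • a` -/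
noncomputable def uref (q : ℕ) (a : Fin n → F) (c c' : F)
    (h : c + c' + c * c' * Cfsg.hermForm n F q a a = 0) : GL (Fin n) F :=
  ofLE (LinearEquiv.ofLinear (LinearMap.transvection (c • hermDual n q a) a)
    (LinearMap.transvection (c' • hermDual n q a) a)
    (uref_aux a c c' h) (uref_aux a c' c (by linear_combination h)))

theorem uref_mulVec (a : Vn) (c c' : F) (h : c + c' + c * c' * H a a = 0) (x : Vn) :
    (uref q a c c' h : Matrix (Fin n) (Fin n) F) *ᵥ x = x + (c * H x a) • a := by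
  rw [uref, ofLE_mulVec]
  simp [LinearMap.transvection.apply]

theorem uref_det (a : Vn) (c c' : F) (h : c + c' + c * c' * H a a = 0) :
    (uref q a c c' h : Matrix (Fin n) (Fin n) F).det = 1 + c * H a a := by
  rw [uref, det_ofLE]
  show LinearMap.det (LinearMap.transvection (c • hermDual n q a) a) = _
  rw [LinearMap.transvection.det]
  simp

theorem uref_mem_GU (hF : Fintype.card F = q ^ 2) (a : Vn) (c : F) (h : c + c ^ q + c * c ^ q * H a a = 0) :
    uref q a c (c ^ q) h ∈ Cfsg.GU n F q := by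
  rw [mem_GU_iff]
  intro x y
  rw [uref_mulVec, uref_mulVec]
  simp only [hermForm_add_left, hermForm_add_right hF, hermForm_smul_left, hermForm_smul_right,
    mul_pow, hermForm_conj hF]
  linear_combination (H x a * H a y) * h

theorem conj_uref {g : GL (Fin n) F} (hg : g ∈ Cfsg.GU n F q) (a : Vn) (c c' : F)
    (h : c + c' + c * c' * H a a = 0)
    (h' : c + c' + c * c' * H ((g : Matrix (Fin n) (Fin n) F) *ᵥ a) ((g : Matrix (Fin n) (Fin n) F) *ᵥ a) = 0) :
    g * uref q a c c' h * g⁻¹ = uref q ((g : Matrix (Fin n) (Fin n) F) *ᵥ a) c c' h' := by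
  apply gl_ext
  intro x
  have e : H (((g⁻¹ : GL (Fin n) F) : Matrix (Fin n) (Fin n) F) *ᵥ x) a
      = H x ((g : Matrix (Fin n) (Fin n) F) *ᵥ a) := by
    rw [← (mem_GU_iff g).mp hg, gl_mulVec_inv]
  rw [gl_mul_mulVec, gl_mul_mulVec, uref_mulVec, uref_mulVec, Matrix.mulVec_add, gl_mulVec_inv,
    Matrix.mulVec_smul, e]

/-- a non-identity unitary map moves some vector non-perpendicularly -/
theorem exists_herm_move_ne (hF : Fintype.card F = q ^ 2) {g : GL (Fin n) F} (hg1 : g ≠ 1) :
    ∃ x : Vn, H x ((g : Matrix (Fin n) (Fin n) F) *ᵥ x - x) ≠ 0 := by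
  by_contra hcon
  push Not at hcon
  obtain ⟨l, hl⟩ := exists_pow_q_ne hF
  apply hg1
  apply gl_ext
  intro y
  rw [Units.val_one, Matrix.one_mulVec]
  by_contra hne
  obtain ⟨x, hx⟩ := exists_herm_ne_zero (q := q) hF (sub_ne_zero.mpr hne)
  apply hx
  have h1 := hcon (x + y)
  have h2 := hcon (x + l • y)
  have hx0 := hcon x
  have hy0 := hcon y
  have e1 : (g : Matrix (Fin n) (Fin n) F) *ᵥ (x + y) - (x + y)
      = ((g : Matrix (Fin n) (Fin n) F) *ᵥ x - x) + ((g : Matrix (Fin n) (Fin n) F) *ᵥ y - y) := by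
    rw [Matrix.mulVec_add]; abel
  have e2 : (g : Matrix (Fin n) (Fin n) F) *ᵥ (x + l • y) - (x + l • y)
      = ((g : Matrix (Fin n) (Fin n) F) *ᵥ x - x) + l • ((g : Matrix (Fin n) (Fin n) F) *ᵥ y - y) := by
    rw [Matrix.mulVec_add, Matrix.mulVec_smul, smul_sub]; abel
  rw [e1] at h1
  rw [e2] at h2
  simp only [hermForm_add_left, hermForm_add_right hF, hermForm_smul_left, hermForm_smul_right, hx0, hy0]
    at h1 h2
  have h3 : (l ^ q - l) * H x ((g : Matrix (Fin n) (Fin n) F) *ᵥ y - y) = 0 := by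
    linear_combination h2 - l * h1
  exact (mul_eq_zero.mp h3).resolve_left (sub_ne_zero.mpr hl)

/-- the fixed space -/
def fixS (g : GL (Fin n) F) : Submodule F Vn where
  carrier := {x | (g : Matrix (Fin n) (Fin n) F) *ᵥ x = x}
  add_mem' := by
    intro a b ha hb
    show (g : Matrix (Fin n) (Fin n) F) *ᵥ (a + b) = a + b
    rw [Matrix.mulVec_add, ha, hb]
  zero_mem' := Matrix.mulVec_zero _
  smul_mem' := by
    intro c a ha
    show (g : Matrix (Fin n) (Fin n) F) *ᵥ (c • a) = c • a
    rw [Matrix.mulVec_smul, ha]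

theorem gu_induct (hF : Fintype.card F = q ^ 2) (P : GL (Fin n) F → Prop) (h1 : P 1)
    (hstep : ∀ (a : Vn) (c : F) (hc : c + c ^ q + c * c ^ q * H a a = 0) (g : GL (Fin n) F),
      g ∈ Cfsg.GU n F q → P g → P (uref q a c (c ^ q) hc * g)) :
    ∀ g ∈ Cfsg.GU n F q, P g := by
  have main : ∀ (d : ℕ) (g : GL (Fin n) F), g ∈ Cfsg.GU n F q → n - finrank F (fixS g) ≤ d → P g := by
    intro d
    induction d with
    | zero =>
      intro g _ hd
      have hle : finrank F (fixS g) ≤ n := by
        have := Submodule.finrank_le (fixS g)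
        simpa using this
      have htop : fixS g = ⊤ := by
        apply Submodule.eq_top_of_finrank_eq
        rw [finrank_fintype_fun_eq_card, Fintype.card_fin]; omega
      have : g = 1 := by
        apply gl_ext; intro x
        have hx : x ∈ fixS g := by rw [htop]; trivial
        rw [Units.val_one, Matrix.one_mulVec]; exact hx
      rw [this]; exact h1
    | succ d ih =>
      intro g hg hd
      by_cases hg1 : g = 1
      · rw [hg1]; exact h1
      obtain ⟨x, hx⟩ := exists_herm_move_ne (q := q) hF hg1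
      set a := (g : Matrix (Fin n) (Fin n) F) *ᵥ x - x with ha
      set z := H x a with hz
      have hgx : (g : Matrix (Fin n) (Fin n) F) *ᵥ x = x + a := by rw [ha]; abel
      have hrel : z + z ^ q + H a a = 0 := by
        have h2 := (mem_GU_iff g).mp hg x x
        rw [hgx] at h2
        simp only [hermForm_add_left, hermForm_add_right hF] at h2
        rw [hz, hermForm_conj hF]
        linear_combination h2
      have hzq : z ^ q ≠ 0 := pow_ne_zero _ hx
      have hc : z⁻¹ + (z⁻¹) ^ q + z⁻¹ * (z⁻¹) ^ q * H a a = 0 := by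
        rw [inv_pow]
        field_simp
        linear_combination hrel
      set ρ := uref q a z⁻¹ ((z⁻¹) ^ q) hc with hρ
      have hρU : ρ ∈ Cfsg.GU n F q := uref_mem_GU hF a _ hc
      have hg₁ : ρ⁻¹ * g ∈ Cfsg.GU n F q := Subgroup.mul_mem _ (Subgroup.inv_mem _ hρU) hg
      have hρx : (ρ : Matrix (Fin n) (Fin n) F) *ᵥ x = x + a := by
        rw [hρ, uref_mulVec, ← hz, inv_mul_cancel₀ hx, one_smul]
      have hlt : fixS g < fixS (ρ⁻¹ * g) := by
        rw [SetLike.lt_iff_le_and_exists]
        constructor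
        · intro v hv
          have hv' : (g : Matrix (Fin n) (Fin n) F) *ᵥ v = v := hv
          show ((ρ⁻¹ * g : GL (Fin n) F) : Matrix (Fin n) (Fin n) F) *ᵥ v = v
          have hva : H v a = 0 := by
            rw [ha, herm_sub_right hF]
            have := (mem_GU_iff g).mp hg v x
            rw [hv'] at this
            rw [this, sub_self]
          have hρv : (ρ : Matrix (Fin n) (Fin n) F) *ᵥ v = v := by
            rw [hρ, uref_mulVec, hva]; simp
          rw [gl_mul_mulVec, hv']
          have := gl_inv_mulVec ρ v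
          rwa [hρv] at this
        · refine ⟨x, ?_, ?_⟩
          · show ((ρ⁻¹ * g : GL (Fin n) F) : Matrix (Fin n) (Fin n) F) *ᵥ x = x
            rw [gl_mul_mulVec, hgx, ← hρx, gl_inv_mulVec]
          · intro hxf
            have hxf' : (g : Matrix (Fin n) (Fin n) F) *ᵥ x = x := hxf
            apply hx
            rw [hz, ha, hxf', sub_self]
            exact herm_zero_right (by have := q_pos hF; omega) x
      have hfr := Submodule.finrank_lt_finrank_of_lt hlt
      have hle : finrank F (fixS (ρ⁻¹ * g)) ≤ n := by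
        have := Submodule.finrank_le (fixS (ρ⁻¹ * g))
        simpa using this
      have h3 := hstep a z⁻¹ hc (ρ⁻¹ * g) hg₁ (ih _ hg₁ (by omega))
      have e : uref q a z⁻¹ ((z⁻¹) ^ q) hc * (ρ⁻¹ * g) = g := by rw [← hρ]; group
      rwa [e] at h3
  intro g hg
  exact main n g hg (by omega)

/-- the group generated by the unitary transvections -/
def utvGroup (n q : ℕ) (F : Type*) [Field F] [Fintype F] : Subgroup (GL (Fin n) F) :=
  Subgroup.closure {t | ∃ (v : Fin n → F) (c : F) (hv : Cfsg.hermForm n F q v v = 0), c + c ^ q = 0 ∧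
    t = utv q v c hv}

theorem utv_mem_utvGroup (v : Vn) (c : F) (hv : H v v = 0) (hc : c + c ^ q = 0) :
    utv q v c hv ∈ utvGroup n q F := Subgroup.subset_closure ⟨v, c, hv, hc, rfl⟩

theorem utvGroup_conj {g t : GL (Fin n) F} (hg : g ∈ Cfsg.GU n F q) (ht : t ∈ utvGroup n q F) :
    g * t * g⁻¹ ∈ utvGroup n q F := by
  unfold utvGroup at ht
  induction ht using Subgroup.closure_induction with
  | mem x hx =>
    obtain ⟨v, c, hv, hc, rfl⟩ := hx
    have h0 : H ((g : Matrix (Fin n) (Fin n) F) *ᵥ v) ((g : Matrix (Fin n) (Fin n) F) *ᵥ v) = 0 := by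
      rw [(mem_GU_iff g).mp hg, hv]
    rw [conj_utv hg v c hv h0]
    exact utv_mem_utvGroup _ _ _ hc
  | one => simp [Subgroup.one_mem]
  | mul a b _ _ ha hb =>
    have : g * (a * b) * g⁻¹ = (g * a * g⁻¹) * (g * b * g⁻¹) := by group
    rw [this]; exact Subgroup.mul_mem _ ha hb
  | inv a _ ha =>
    have : g * a⁻¹ * g⁻¹ = (g * a * g⁻¹)⁻¹ := by group
    rw [this]; exact Subgroup.inv_mem _ ha

theorem utvGroup_le_SU (hF : Fintype.card F = q ^ 2) :
    utvGroup n q F ≤ Cfsg.GU n F q ⊓ Cfsg.Geo.specialLinear (Fin n) F := by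
  unfold utvGroup
  rw [Subgroup.closure_le]
  rintro _ ⟨v, c, hv, hc, rfl⟩
  exact utv_mem_SU hF v c hv hc

/-- adding a perpendicular isotropic vector to a vector of norm one -/
theorem exists_utvGroup_add (hF : Fintype.card F = q ^ 2) (hn : 5 ≤ n) {a u : Vn} (ha : H a a = 1)
    (hu : H u u = 0) (hua : H u a = 0) :
    ∃ t ∈ utvGroup n q F, (t : Matrix (Fin n) (Fin n) F) *ᵥ a = a + u := by
  have hau : H a u = 0 := herm_eq_zero_symm hF hua
  obtain ⟨s, hs⟩ := exists_trace_eq hF (-1 : F) (by rw [neg_pow_q hF, one_pow])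
  obtain ⟨b, hb, hbb⟩ := exists_norm_perp hF ![a, u] (by simp; omega) (-1 : F)
    (by rw [neg_pow_q hF, one_pow])
  have hba : H b a = 0 := hb 0
  have hbu : H b u = 0 := hb 1
  have hab : H a b = 0 := herm_eq_zero_symm hF hba
  have h1 : H (-a) u = 0 := by rw [herm_neg_left, hau, neg_zero]
  have h2 : H u (-a) = 0 := by rw [herm_neg_right hF, hua, neg_zero]
  have h3 : H (-a) (-a) = 1 := by rw [herm_neg_left, herm_neg_right hF, ha]; ring
  refine ⟨ueich q u (-a) s hu h1 h2, ?_, ?_⟩
  · apply ueich_mem_general hF _ (fun v c hv hc => utv_mem_utvGroup v c hv hc) hu h1 h2 _ s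
      (by rw [h3]; linear_combination hs)
    right
    refine ⟨a + b, ?_, ?_, ?_⟩
    · simp only [hermForm_add_left, hermForm_add_right hF, ha, hab, hba, hbb]; ring
    · rw [hermForm_add_left, hau, hbu, add_zero]
    · rw [hermForm_add_left, herm_neg_right hF, herm_neg_right hF, ha, hba]; simp
  · rw [ueich_mulVec, hau, herm_neg_right hF, ha]; simp

theorem exists_utvGroup_orth (hF : Fintype.card F = q ^ 2) (hn : 5 ≤ n) {a c d : Vn} (ha : H a a = 1)
    (hc : H c c = 1) (hd : H d d = 1) (hac : H a c = 0) (had : H a d = 0) (hcd : H c d = 0) :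
    ∃ t ∈ utvGroup n q F, (t : Matrix (Fin n) (Fin n) F) *ᵥ a = c := by
  obtain ⟨ε, hε⟩ := exists_norm_eq hF (-1 : F) (by rw [neg_pow_q hF, one_pow])
  have hca := herm_eq_zero_symm hF hac
  have hda := herm_eq_zero_symm hF had
  have hdc := herm_eq_zero_symm hF hcd
  obtain ⟨t₁, ht₁, e₁⟩ := exists_utvGroup_add hF hn ha (u := c + ε • d) (by
      simp only [hermForm_add_left, hermForm_add_right hF, hermForm_smul_left, hermForm_smul_right, hc, hd,
        hcd, hdc]
      linear_combination hε) (by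
      simp only [hermForm_add_left, hermForm_smul_left, hca, hda]; ring)
  obtain ⟨t₂, ht₂, e₂⟩ := exists_utvGroup_add hF hn (a := a + (c + ε • d)) (u := -(a + ε • d)) (by
      simp only [hermForm_add_left, hermForm_add_right hF, hermForm_smul_left, hermForm_smul_right, ha, hc, hd,
        hcd, hdc, hac, hca, had, hda]
      linear_combination hε) (by
      simp only [herm_neg_left, herm_neg_right hF, hermForm_add_left, hermForm_add_right hF,
        hermForm_smul_left, hermForm_smul_right, ha, hd, had, hda]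
      linear_combination hε) (by
      simp only [herm_neg_left, hermForm_add_left, hermForm_add_right hF,
        hermForm_smul_left, hermForm_smul_right, ha, hc, hd, hcd, hdc, hac, hca, had, hda]
      linear_combination -hε)
  refine ⟨t₂ * t₁, Subgroup.mul_mem _ ht₂ ht₁, ?_⟩
  rw [gl_mul_mulVec, e₁, e₂]; abel

theorem exists_utvGroup_norm_one (hF : Fintype.card F = q ^ 2) (hn : 5 ≤ n) {a b : Vn} (ha : H a a = 1)
    (hb : H b b = 1) : ∃ t ∈ utvGroup n q F, (t : Matrix (Fin n) (Fin n) F) *ᵥ a = b := by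
  obtain ⟨c, hc, hcc⟩ := exists_norm_perp hF ![a, b] (by simp; omega) (1 : F) (one_pow q)
  have hca : H c a = 0 := hc 0
  have hcb : H c b = 0 := hc 1
  obtain ⟨d, hd, hdd⟩ := exists_norm_perp hF ![a, c] (by simp; omega) (1 : F) (one_pow q)
  have hda : H d a = 0 := hd 0
  have hdc : H d c = 0 := hd 1
  obtain ⟨d', hd', hdd'⟩ := exists_norm_perp hF ![b, c] (by simp; omega) (1 : F) (one_pow q)
  have hdb' : H d' b = 0 := hd' 0
  have hdc' : H d' c = 0 := hd' 1
  obtain ⟨t₁, ht₁, e₁⟩ := exists_utvGroup_orth hF hn ha hcc hdd (herm_eq_zero_symm hF hca)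
    (herm_eq_zero_symm hF hda) (herm_eq_zero_symm hF hdc)
  obtain ⟨t₂, ht₂, e₂⟩ := exists_utvGroup_orth hF hn hb hcc hdd' (herm_eq_zero_symm hF hcb)
    (herm_eq_zero_symm hF hdb') (herm_eq_zero_symm hF hdc')
  refine ⟨t₂⁻¹ * t₁, Subgroup.mul_mem _ (Subgroup.inv_mem _ ht₂) ht₁, ?_⟩
  rw [gl_mul_mulVec, e₁, ← e₂, gl_inv_mulVec]

theorem su_le_utvGroup (hF : Fintype.card F = q ^ 2) (hn : 5 ≤ n) :
    Cfsg.GU n F q ⊓ Cfsg.Geo.specialLinear (Fin n) F ≤ utvGroup n q F := by
  obtain ⟨b₀, -, hb₀⟩ := exists_norm_perp hF (Fin.elim0 : Fin 0 → Vn) (by omega) (1 : F) (one_pow q)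
  have key : ∀ g ∈ Cfsg.GU n F q, ∃ t ∈ utvGroup n q F, ∃ (c : F) (hc : c + c ^ q + c * c ^ q * H b₀ b₀ = 0),
      g = t * uref q b₀ c (c ^ q) hc := by
    apply gu_induct hF
    · refine ⟨1, Subgroup.one_mem _, 0, by
        have hq : q ≠ 0 := by have := q_pos hF; omega
        simp [hq], ?_⟩
      apply gl_ext; intro x
      rw [gl_mul_mulVec, uref_mulVec]; simp
    · rintro a c hc g hg ⟨t₁, ht₁, c₁, hc₁, rfl⟩
      by_cases haa : H a a = 0
      · refine ⟨utv q a c haa * t₁, Subgroup.mul_mem _ (utv_mem_utvGroup a c haa (by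
          rw [haa, mul_zero, add_zero] at hc; exact hc)) ht₁, c₁, hc₁, ?_⟩
        have : uref q a c (c ^ q) hc = utv q a c haa := by
          apply gl_ext; intro x
          rw [uref_mulVec, utv_mulVec]
        rw [this, mul_assoc]
      · obtain ⟨l, hl⟩ := exists_norm_eq hF (H a a) (herm_self_pow hF a)
        have hl0 : l ≠ 0 := by
          rintro rfl
          apply haa
          rw [← hl]; simp
        have hlq : l ^ q ≠ 0 := pow_ne_zero _ hl0
        have ha₁ : H (l⁻¹ • a) (l⁻¹ • a) = 1 := by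
          rw [hermForm_smul_left, hermForm_smul_right, ← hl, inv_pow]
          field_simp
        obtain ⟨s, hs, es⟩ := exists_utvGroup_norm_one hF hn hb₀ ha₁
        have hsU : s ∈ Cfsg.GU n F q := (utvGroup_le_SU hF hs).1
        set c' := c * (l * l ^ q) with hc'
        have hc'q : c' ^ q = c ^ q * (l * l ^ q) := by
          rw [hc', mul_pow, mul_pow, pow_q_pow_q hF]; ring
        have hc'0 : c' + c' ^ q + c' * c' ^ q * H b₀ b₀ = 0 := by
          rw [hb₀, hc'q, hc', hl]
          linear_combination (H a a) * hc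
        have e1 : uref q a c (c ^ q) hc = s * uref q b₀ c' (c' ^ q) hc'0 * s⁻¹ := by
          rw [conj_uref hsU b₀ c' (c' ^ q) hc'0 (by rw [(mem_GU_iff s).mp hsU]; exact hc'0)]
          apply gl_ext; intro x
          rw [uref_mulVec, uref_mulVec, es, hermForm_smul_right, smul_smul, hc', inv_pow]
          congr 1
          field_simp
        set r := uref q b₀ c' (c' ^ q) hc'0 with hr
        have hrU : r ∈ Cfsg.GU n F q := uref_mem_GU hF _ _ _
        set c₂ := c' + c₁ + c' * c₁ with hc₂
        have hc₂0 : c₂ + c₂ ^ q + c₂ * c₂ ^ q * H b₀ b₀ = 0 := by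
          rw [hb₀] at hc'0 hc₁ ⊢
          have : c₂ ^ q = c' ^ q + c₁ ^ q + c' ^ q * c₁ ^ q := by
            rw [hc₂, add_pow_q hF, add_pow_q hF, mul_pow c' c₁ q]
          rw [this, hc₂]
          linear_combination (1 + c₁ + c₁ ^ q + c₁ * c₁ ^ q) * hc'0 + hc₁
        refine ⟨s * (r * (s⁻¹ * t₁) * r⁻¹), Subgroup.mul_mem _ hs
          (utvGroup_conj hrU (Subgroup.mul_mem _ (Subgroup.inv_mem _ hs) ht₁)), c₂, hc₂0, ?_⟩
        have e2 : uref q b₀ c₂ (c₂ ^ q) hc₂0 = r * uref q b₀ c₁ (c₁ ^ q) hc₁ := by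
          apply gl_ext; intro x
          rw [gl_mul_mulVec, uref_mulVec, hr, uref_mulVec, uref_mulVec, hermForm_add_left, hermForm_smul_left,
            hb₀, hc₂]
          module
        rw [e1, e2]
        group
  intro g hg
  obtain ⟨t, ht, c, hc, rfl⟩ := key g hg.1
  have h1 := (mem_specialLinear_iff _).mp hg.2
  have h2 := (mem_specialLinear_iff _).mp (utvGroup_le_SU hF ht).2
  rw [Units.val_mul, Matrix.det_mul, h2, one_mul, uref_det, hb₀, mul_one] at h1
  have hc0 : c = 0 := by linear_combination h1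
  have : uref q b₀ c (c ^ q) hc = 1 := by
    apply gl_ext; intro x
    rw [uref_mulVec, hc0]; simp
  rw [this, mul_one]
  exact ht

/-- a subgroup containing all unitary transvections contains `SU` -/
theorem su_le_of_utv (hF : Fintype.card F = q ^ 2) (hn : 5 ≤ n) (M : Subgroup (GL (Fin n) F))
    (hM : ∀ (v : Vn) (c : F) (hv : H v v = 0), c + c ^ q = 0 → utv q v c hv ∈ M) :
    Cfsg.GU n F q ⊓ Cfsg.Geo.specialLinear (Fin n) F ≤ M := by
  refine le_trans (su_le_utvGroup hF hn) ?_
  unfold utvGroup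
  rw [Subgroup.closure_le]
  rintro _ ⟨v, c, hv, hc, rfl⟩
  exact hM v c hv hc

end Cfsg.Agent.Lib.Helper29
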