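import Mathlib

/-!
Isomorphisms between symmetric groups of degree `≠ 6` preserve transpositions.
-/

set_option autoImplicit false

namespace Cfsg.Agent.Lib.Helper29

open Equiv Equiv.Perm Nat

theorem two_pow_mul_factorial_lt (k : ℕ) (hk : 3 ≤ k) : 2 ^ k * (k + 1)! < (2 * k)! := by
  induction k, hk using Nat.le_induction with
  | base => decide
  | succ k hk ih =>
    have e1 : (2 * (k + 1))! = (2 * k + 2) * ((2 * k + 1) * (2 * k)!) := by
      have : 2 * (k + 1) = (2 * k + 1) + 1 := by ring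
      rw [this, Nat.factorial_succ, Nat.factorial_succ]
    have e2 : (k + 1 + 1)! = (k + 2) * (k + 1)! := Nat.factorial_succ (k + 1)
    rw [e1, e2, pow_succ]
    have h1 : 2 ^ k * 2 * ((k + 2) * (k + 1)!) = (2 * (k + 2)) * (2 ^ k * (k + 1)!) := by ring
    have h2 : (2 * k + 2) * ((2 * k + 1) * (2 * k)!) = ((2 * k + 2) * (2 * k + 1)) * (2 * k)! := by ring
    rw [h1, h2]
    have h3 : 2 * (k + 2) ≤ (2 * k + 2) * (2 * k + 1) := by nlinarith
    calc (2 * (k + 2)) * (2 ^ k * (k + 1)!) ≤ ((2 * k + 2) * (2 * k + 1)) * (2 ^ k * (k + 1)!) :=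
          Nat.mul_le_mul_right _ h3
      _ < ((2 * k + 2) * (2 * k + 1)) * (2 * k)! := by
          apply Nat.mul_lt_mul_of_pos_left ih
          positivity

theorem swap_numeric (m k : ℕ) (h : (m + 2 * k)! * 2 = m ! * 2 ^ (k + 1) * (k + 1)!) :
    k = 0 ∨ (m = 0 ∧ k = 2) := by
  have hm : 0 < m ! := Nat.factorial_pos m
  rcases Nat.lt_or_ge k 3 with hk | hk
  · interval_cases k
    · left; rfl
    · exfalso
      have e : (m + 2 * 1)! = (m + 2) * ((m + 1) * m !) := by
        rw [show m + 2 * 1 = (m + 1) + 1 by ring, Nat.factorial_succ, Nat.factorial_succ]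
      rw [e] at h
      have h2 : m ! * ((m + 2) * (m + 1) * 2) = m ! * 8 := by
        have : (2 : ℕ) ^ (1 + 1) * (1 + 1)! = 8 := by decide
        calc m ! * ((m + 2) * (m + 1) * 2) = (m + 2) * ((m + 1) * m !) * 2 := by ring
          _ = m ! * 2 ^ (1 + 1) * (1 + 1)! := h
          _ = m ! * (2 ^ (1 + 1) * (1 + 1)!) := by ring
          _ = m ! * 8 := by rw [this]
      have h3 := Nat.eq_of_mul_eq_mul_left hm h2
      rcases Nat.eq_zero_or_pos m with rfl | hpos
      · omega
      · nlinarith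
    · right
      refine ⟨?_, rfl⟩
      have e : (m + 2 * 2)! = (m + 4) * ((m + 3) * ((m + 2) * ((m + 1) * m !))) := by
        rw [show m + 2 * 2 = (((m + 1) + 1) + 1) + 1 by ring, Nat.factorial_succ, Nat.factorial_succ,
          Nat.factorial_succ, Nat.factorial_succ]
      rw [e] at h
      have h2 : m ! * ((m + 4) * (m + 3) * (m + 2) * (m + 1) * 2) = m ! * 48 := by
        have : (2 : ℕ) ^ (2 + 1) * (2 + 1)! = 48 := by decide
        calc m ! * ((m + 4) * (m + 3) * (m + 2) * (m + 1) * 2)
            = (m + 4) * ((m + 3) * ((m + 2) * ((m + 1) * m !))) * 2 := by ring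
          _ = m ! * 2 ^ (2 + 1) * (2 + 1)! := h
          _ = m ! * (2 ^ (2 + 1) * (2 + 1)!) := by ring
          _ = m ! * 48 := by rw [this]
      have h3 := Nat.eq_of_mul_eq_mul_left hm h2
      rcases Nat.eq_zero_or_pos m with rfl | hpos
      · rfl
      · exfalso
        have a1 : 5 ≤ m + 4 := by omega
        have a2 : 4 ≤ m + 3 := by omega
        have a3 : 3 ≤ m + 2 := by omega
        have a4 : 2 ≤ m + 1 := by omega
        have b1 : 20 ≤ (m + 4) * (m + 3) := Nat.mul_le_mul a1 a2
        have b2 : 60 ≤ (m + 4) * (m + 3) * (m + 2) := Nat.mul_le_mul b1 a3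
        have b3 : 120 ≤ (m + 4) * (m + 3) * (m + 2) * (m + 1) := Nat.mul_le_mul b2 a4
        omega
  · exfalso
    have h1 := two_pow_mul_factorial_lt k hk
    have h2 : m ! * (2 * k)! ≤ (m + 2 * k)! :=
      Nat.le_of_dvd (Nat.factorial_pos _) (Nat.factorial_mul_factorial_dvd_factorial_add m (2 * k))
    have h3 : m ! * (2 ^ k * (k + 1)!) < m ! * (2 * k)! := Nat.mul_lt_mul_of_pos_left h1 hm
    have h4 : m ! * 2 ^ (k + 1) * (k + 1)! = (m ! * (2 ^ k * (k + 1)!)) * 2 := by
      rw [pow_succ]; ring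
    rw [h4] at h
    omega

theorem isSwap_map_of_card_ne_six {A B : Type*} [Fintype A] [DecidableEq A] [Fintype B] [DecidableEq B]
    (e : Perm A ≃* Perm B) (hcard : Fintype.card A = Fintype.card B) (h6 : Fintype.card A ≠ 6)
    {s : Perm A} (hs : s.IsSwap) : (e s).IsSwap := by
  have ho : orderOf (e s) = 2 := by
    rw [MulEquiv.orderOf_eq, hs.orderOf]
  obtain ⟨k, hk⟩ := cycleType_prime_order (σ := e s) (by rw [ho]; exact Nat.prime_two)
  rw [ho] at hk
  have hc : Nat.card (Subgroup.centralizer {s}) = Nat.card (Subgroup.centralizer {e s}) := by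
    apply Nat.card_congr
    refine e.toEquiv.subtypeEquiv (fun x => ?_)
    simp only [SetLike.mem_coe, Subgroup.mem_centralizer_singleton_iff, MulEquiv.toEquiv_eq_coe,
      MulEquiv.coe_toEquiv, ← map_mul, EmbeddingLike.apply_eq_iff_eq]
  rw [nat_card_centralizer, nat_card_centralizer, isSwap_iff_cycleType.1 hs, hk] at hc
  have hsum : (e s).cycleType.sum ≤ Fintype.card B := by
    rw [sum_cycleType]; exact Finset.card_le_univ _
  rw [hk] at hsum
  have hsumA : s.cycleType.sum ≤ Fintype.card A := by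
    rw [sum_cycleType]; exact Finset.card_le_univ _
  rw [isSwap_iff_cycleType.1 hs] at hsumA
  simp only [Multiset.sum_singleton, Multiset.prod_singleton, Multiset.toFinset_singleton,
    Finset.prod_singleton, Multiset.count_singleton_self, Nat.factorial_one, mul_one,
    Multiset.sum_replicate, Multiset.prod_replicate, smul_eq_mul] at hc hsum hsumA
  have htf : (Multiset.replicate (k + 1) 2).toFinset = {2} := by
    rw [Multiset.toFinset_replicate]; simp
  rw [htf, Finset.prod_singleton, Multiset.count_replicate_self] at hc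
  obtain ⟨m, hm⟩ : ∃ m, Fintype.card B = m + (k + 1) * 2 := ⟨Fintype.card B - (k + 1) * 2, by omega⟩
  have h1 : Fintype.card A - 2 = m + 2 * k := by omega
  have h2 : Fintype.card B - (k + 1) * 2 = m := by omega
  rw [h1, h2] at hc
  rcases swap_numeric m k hc with rfl | ⟨rfl, rfl⟩
  · rw [isSwap_iff_cycleType, hk]; rfl
  · omega

end Cfsg.Agent.Lib.Helper29
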