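import Mathlib
import Cfsg.Agent.Lib.Helper29.IdxN1

/-!
Subgroups of index `n` in the symmetric group of degree `n ≠ 6`.
-/

set_option autoImplicit false

namespace Cfsg.Agent.Lib.Helper29

open Equiv Equiv.Perm

theorem swap_comm_of_disjoint' {A : Type*} [DecidableEq A] {a b c d : A} (h1 : a ≠ c) (h2 : a ≠ d)
    (h3 : b ≠ c) (h4 : b ≠ d) : swap a b * swap c d = swap c d * swap a b := by
  ext x
  simp only [Perm.mul_apply, swap_apply_def]
  split_ifs <;> simp_all

theorem exists_common_of_not_comm {A : Type*} [DecidableEq A] {s t : Perm A} (hs : s.IsSwap) (ht : t.IsSwap)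
    (hne : s * t ≠ t * s) : ∃ a u v, u ≠ a ∧ v ≠ a ∧ s = swap a u ∧ t = swap a v := by
  obtain ⟨p, u, hpu, rfl⟩ := hs
  obtain ⟨c, d, hcd, rfl⟩ := ht
  by_cases h1 : p = c
  · subst h1
    exact ⟨p, u, d, hpu.symm, hcd.symm, rfl, rfl⟩
  by_cases h2 : p = d
  · subst h2
    exact ⟨p, u, c, hpu.symm, hcd, rfl, swap_comm _ _⟩
  by_cases h3 : u = c
  · subst h3
    exact ⟨u, p, d, hpu, hcd.symm, swap_comm _ _, rfl⟩
  by_cases h4 : u = d
  · subst h4
    exact ⟨u, p, c, hpu, hcd, swap_comm _ _, swap_comm _ _⟩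
  exact absurd (swap_comm_of_disjoint' h1 h2 h3 h4) hne

theorem eq_swap_of_moves {A : Type*} [DecidableEq A] {t : Perm A} (ht : t.IsSwap) {a b : A} (hab : a ≠ b)
    (ha : t a ≠ a) (hb : t b ≠ b) : t = swap a b := by
  obtain ⟨c, d, hcd, rfl⟩ := ht
  have h1 : a = c ∨ a = d := by
    by_contra h
    push Not at h
    exact ha (swap_apply_of_ne_of_ne h.1 h.2)
  have h2 : b = c ∨ b = d := by
    by_contra h
    push Not at h
    exact hb (swap_apply_of_ne_of_ne h.1 h.2)
  rcases h1 with rfl | rfl <;> rcases h2 with rfl | rfl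
  · exact absurd rfl hab
  · rfl
  · exact swap_comm _ _
  · exact absurd rfl hab

theorem star_not_comm {X : Type*} [DecidableEq X] {x₀ y₁ y₂ : X} (h1 : y₁ ≠ x₀) (h2 : y₂ ≠ x₀)
    (h12 : y₁ ≠ y₂) : swap x₀ y₁ * swap x₀ y₂ ≠ swap x₀ y₂ * swap x₀ y₁ := by
  intro h
  have := congrArg (fun f : Perm X => f y₂) h
  simp only [Perm.mul_apply, swap_apply_right, swap_apply_left] at this
  rw [swap_apply_of_ne_of_ne h2 h12.symm, swap_apply_right] at this
  exact h1 this

/-- the images of the transpositions through `x₀` all move a common point -/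
theorem star_lemma {X Ω : Type*} [DecidableEq X] [DecidableEq Ω] (ψ : Perm X →* Perm Ω)
    (hinj : Function.Injective ψ) (hsw : ∀ s : Perm X, s.IsSwap → (ψ s).IsSwap) {x₀ y₁ y₂ : X}
    (h1 : y₁ ≠ x₀) (h2 : y₂ ≠ x₀) (h12 : y₁ ≠ y₂) :
    ∃ a : Ω, ∀ y, y ≠ x₀ → ψ (swap x₀ y) a ≠ a := by
  have hnc : ∀ y y', y ≠ x₀ → y' ≠ x₀ → y ≠ y' →
      ψ (swap x₀ y) * ψ (swap x₀ y') ≠ ψ (swap x₀ y') * ψ (swap x₀ y) := by
    intro y y' hy hy' hne h
    rw [← map_mul, ← map_mul] at h
    exact star_not_comm hy hy' hne (hinj h)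
  obtain ⟨a, u, v, hu, hv, e1, e2⟩ := exists_common_of_not_comm (hsw _ ⟨x₀, y₁, h1.symm, rfl⟩)
    (hsw _ ⟨x₀, y₂, h2.symm, rfl⟩) (hnc y₁ y₂ h1 h2 h12)
  have huv : u ≠ v := by
    rintro rfl
    apply h12
    have := hinj (e1.trans e2.symm)
    have h3 := congrArg (fun f : Perm X => f x₀) this
    simpa using h3
  refine ⟨a, fun y hy => ?_⟩
  by_cases c1 : y = y₁
  · rw [c1, e1, swap_apply_left]; exact hu
  by_cases c2 : y = y₂
  · rw [c2, e2, swap_apply_left]; exact hv
  intro hfix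
  obtain ⟨c, d, hcd, e3⟩ := hsw _ ⟨x₀, y, hy.symm, rfl⟩
  rw [e3] at hfix
  have hca : a ≠ c := by
    rintro rfl
    rw [swap_apply_left] at hfix
    exact hcd hfix.symm
  have hda : a ≠ d := by
    rintro rfl
    rw [swap_apply_right] at hfix
    exact hcd hfix
  have n1 := hnc y₁ y h1 hy (Ne.symm c1)
  have n2 := hnc y₂ y h2 hy (Ne.symm c2)
  rw [e1, e3] at n1
  rw [e2, e3] at n2
  have k1 : u = c ∨ u = d := by
    by_contra h
    push Not at h
    exact n1 (swap_comm_of_disjoint' hca hda h.1 h.2)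
  have k2 : v = c ∨ v = d := by
    by_contra h
    push Not at h
    exact n2 (swap_comm_of_disjoint' hca hda h.1 h.2)
  have e4 : ψ (swap x₀ y) = swap u v := by
    rw [e3]
    rcases k1 with rfl | rfl <;> rcases k2 with rfl | rfl
    · exact absurd rfl huv
    · rfl
    · exact swap_comm _ _
    · exact absurd rfl huv
  have e5 : swap a u * swap a v * swap a u = swap u v := by
    rw [swap_comm a v]
    exact swap_mul_swap_mul_swap hv huv.symm
  have e6 : swap x₀ y₁ * swap x₀ y₂ * swap x₀ y₁ = swap y₁ y₂ := by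
    rw [swap_comm x₀ y₂]
    exact swap_mul_swap_mul_swap h2 h12.symm
  have e7 : ψ (swap x₀ y) = ψ (swap y₁ y₂) := by
    rw [e4, ← e5, ← e6, map_mul, map_mul, e1, e2]
  have e8 := congrArg (fun f : Perm X => f x₀) (hinj e7)
  simp only [swap_apply_left] at e8
  rw [swap_apply_of_ne_of_ne h1.symm h2.symm] at e8
  exact hy e8

theorem subgroup_eq_of_le_of_index_eq {G : Type*} [Group G] [Finite G] {H K : Subgroup G} (h : H ≤ K)
    (hi : H.index = K.index) : H = K := by
  apply le_antisymm h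
  rw [← Subgroup.relIndex_eq_one]
  have h1 := Subgroup.relIndex_mul_index h
  rw [hi] at h1
  have h2 : K.index ≠ 0 := Subgroup.index_ne_zero_of_finite
  have h3 : H.relIndex K * K.index = 1 * K.index := by rw [h1, one_mul]
  exact Nat.eq_of_mul_eq_mul_right (Nat.pos_of_ne_zero h2) h3

/-- the core of a subgroup of index `n ≥ 3` of the symmetric group of degree `n` is trivial -/
theorem normalCore_eq_bot_of_index {Ω : Type*} [Fintype Ω] [DecidableEq Ω] (h3 : 3 ≤ Fintype.card Ω)
    (H : Subgroup (Perm Ω)) (hH : H.index = Fintype.card Ω) : H.normalCore = ⊥ := by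
  by_contra hN
  have hnt : Nontrivial H.normalCore := (Subgroup.nontrivial_iff_ne_bot _).2 hN
  haveI : Nontrivial Ω := Fintype.one_lt_card_iff_nontrivial.1 (by omega)
  rcases Nat.lt_or_ge (Fintype.card Ω) 5 with h5 | h5
  · -- the core is transitive
    have hfix : MulAction.fixedPoints H.normalCore Ω ≠ Set.univ := by
      intro hf
      apply hN
      rw [eq_bot_iff]
      intro σ hσ
      rw [Subgroup.mem_bot]
      ext x
      have : x ∈ MulAction.fixedPoints H.normalCore Ω := by rw [hf]; trivial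
      exact this ⟨σ, hσ⟩
    haveI := MulAction.IsQuasiPreprimitive.isPretransitive_of_normal (G := Perm Ω) hfix
    obtain ⟨x⟩ : Nonempty Ω := inferInstance
    have h1 := MulAction.index_stabilizer_of_transitive (G := H.normalCore) x
    have h2 : Nat.card Ω ∣ Nat.card H.normalCore := by
      rw [← h1]; exact Subgroup.index_dvd_card _
    have h4 : Nat.card H.normalCore ∣ Nat.card H := Subgroup.card_dvd_of_le (Subgroup.normalCore_le H)
    have h6 := Subgroup.card_mul_index H
    rw [hH, Nat.card_perm, Nat.card_eq_fintype_card (α := Ω)] at h6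
    have h7 := h2.trans h4
    rw [Nat.card_eq_fintype_card (α := Ω)] at h7
    obtain ⟨c, hc⟩ := h7
    rw [hc] at h6
    have h8 : Fintype.card Ω = 3 ∨ Fintype.card Ω = 4 := by omega
    rcases h8 with h8 | h8 <;> rw [h8] at h6
    · have : (3 : ℕ).factorial = 6 := by decide
      omega
    · have : (4 : ℕ).factorial = 24 := by decide
      omega
  · have h1 := Equiv.Perm.alternatingGroup_le_of_normal (α := Ω) (by rw [Nat.card_eq_fintype_card]; exact h5) hnt
    have h2 := Subgroup.index_dvd_of_le (h1.trans (Subgroup.normalCore_le H))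
    rw [alternatingGroup.index_eq_two, hH] at h2
    have := Nat.le_of_dvd (by norm_num) h2
    omega

theorem eq_stabilizer_of_index {Ω : Type*} [Fintype Ω] [DecidableEq Ω] (h6 : Fintype.card Ω ≠ 6)
    (H : Subgroup (Perm Ω)) (hH : H.index = Fintype.card Ω) :
    ∃ x : Ω, H = MulAction.stabilizer (Perm Ω) x := by
  classical
  have hn0 : Fintype.card Ω ≠ 0 := by
    rw [← hH]; exact Subgroup.index_ne_zero_of_finite
  have hstab : ∀ x : Ω, (MulAction.stabilizer (Perm Ω) x).index = Fintype.card Ω := by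
    intro x
    rw [MulAction.index_stabilizer_of_transitive, Nat.card_eq_fintype_card]
  rcases Nat.lt_or_ge (Fintype.card Ω) 3 with h3 | h3
  · obtain ⟨x⟩ : Nonempty Ω := Fintype.card_pos_iff.1 (Nat.pos_of_ne_zero hn0)
    refine ⟨x, subgroup_eq_of_le_of_index_eq ?_ (by rw [hH, hstab])⟩
    have h1 := Subgroup.card_mul_index H
    rw [hH, Nat.card_perm, Nat.card_eq_fintype_card (α := Ω)] at h1
    have h2 : Nat.card H = 1 := by
      have h8 : Fintype.card Ω = 1 ∨ Fintype.card Ω = 2 := by omega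
      rcases h8 with h8 | h8 <;> rw [h8] at h1
      · simpa using h1
      · have : (2 : ℕ).factorial = 2 := by decide
        omega
    rw [Subgroup.card_eq_one.1 h2]
    exact bot_le
  -- the action on the cosets
  let X := Perm Ω ⧸ H
  haveI : Fintype X := Fintype.ofFinite X
  have hX : Fintype.card X = Fintype.card Ω := by
    rw [← hH, Subgroup.index_eq_card, Nat.card_eq_fintype_card]
  let φ : Perm Ω →* Perm X := MulAction.toPermHom (Perm Ω) X
  have hinj : Function.Injective φ := by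
    rw [← MonoidHom.ker_eq_bot_iff, ← Subgroup.normalCore_eq_ker]
    exact normalCore_eq_bot_of_index h3 H hH
  have hbij : Function.Bijective φ := by
    rw [Fintype.bijective_iff_injective_and_card]
    exact ⟨hinj, by rw [Fintype.card_perm, Fintype.card_perm, hX]⟩
  let e : Perm Ω ≃* Perm X := MulEquiv.ofBijective φ hbij
  let x₀ : X := ((1 : Perm Ω) : Perm Ω ⧸ H)
  have hmem : ∀ h : Perm Ω, h ∈ H ↔ e h x₀ = x₀ := by
    intro h
    rw [← MulAction.stabilizer_quotient H]
    rfl
  obtain ⟨y₁, y₂, hy₁, hy₂, h12⟩ : ∃ y₁ y₂ : X, y₁ ≠ x₀ ∧ y₂ ≠ x₀ ∧ y₁ ≠ y₂ := by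
    have h2 : 2 < Fintype.card X := by omega
    obtain ⟨a, b, c, hab, hac, hbc⟩ := Fintype.two_lt_card_iff.1 h2
    by_cases ha : a = x₀
    · exact ⟨b, c, fun h => hab (ha.trans h.symm), fun h => hac (ha.trans h.symm), hbc⟩
    · by_cases hb : b = x₀
      · exact ⟨a, c, ha, fun h => hbc (hb.trans h.symm), hac⟩
      · exact ⟨a, b, ha, hb, hab⟩
  have hsw : ∀ s : Perm X, s.IsSwap → (e.symm s).IsSwap := fun s hs =>
    isSwap_map_of_card_ne_six e.symm hX (by rw [hX]; exact h6) hs
  obtain ⟨a, ha⟩ := star_lemma (e.symm : Perm X ≃* Perm Ω).toMonoidHom e.symm.injective hsw hy₁ hy₂ h12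
  refine ⟨a, subgroup_eq_of_le_of_index_eq ?_ (by rw [hH, hstab])⟩
  intro h hh
  rw [MulAction.mem_stabilizer_iff]
  change h a = a
  have hk : e h x₀ = x₀ := (hmem h).1 hh
  -- every image of a transposition through `x₀` moves `h⁻¹ a`
  have hb : ∀ y, y ≠ x₀ → e.symm (swap x₀ y) (h⁻¹ a) ≠ h⁻¹ a := by
    intro y hy hfix
    have hy' : e h y ≠ x₀ := by
      intro h0
      apply hy
      apply (e h).injective
      rw [h0, hk]
    have h1 := ha (e h y) hy'
    apply h1
    have h2 : swap x₀ (e h y) = e h * swap x₀ y * (e h)⁻¹ := by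
      rw [← swap_apply_apply, hk]
    change e.symm (swap x₀ (e h y)) a = a
    rw [h2, map_mul, map_mul, map_inv, MulEquiv.symm_apply_apply, Perm.mul_apply, Perm.mul_apply, hfix]
    simp
  by_contra hne
  have hne' : a ≠ h⁻¹ a := by
    intro h0
    apply hne
    conv_lhs => rw [h0]
    simp
  have t1 := eq_swap_of_moves (hsw _ ⟨x₀, y₁, hy₁.symm, rfl⟩) hne' (ha y₁ hy₁) (hb y₁ hy₁)
  have t2 := eq_swap_of_moves (hsw _ ⟨x₀, y₂, hy₂.symm, rfl⟩) hne' (ha y₂ hy₂) (hb y₂ hy₂)
  have t3 := e.symm.injective (t1.trans t2.symm)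
  have t4 := congrArg (fun f : Perm X => f x₀) t3
  simp only [swap_apply_left] at t4
  exact h12 t4

end Cfsg.Agent.Lib.Helper29
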