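import Mathlib
import Cfsg.Agent.Lib.Helper29.IdxN2

/-!
Pointwise stabilisers in alternating groups.
-/

set_option autoImplicit false

namespace Cfsg.Agent.Lib.Helper29

open Equiv Equiv.Perm

variable {Ω : Type*} [Fintype Ω] [DecidableEq Ω]

/-- pointwise stabiliser of a finite set in the alternating group -/
def PF (S : Finset Ω) : Subgroup (alternatingGroup Ω) where
  carrier := {g | ∀ y ∈ S, (g : Perm Ω) y = y}
  mul_mem' := fun {a b} ha hb y hy => by
    rw [Subgroup.coe_mul, Perm.mul_apply, hb y hy, ha y hy]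
  one_mem' := fun y _ => rfl
  inv_mem' := fun {a} ha y hy => by
    rw [Subgroup.coe_inv, Perm.inv_eq_iff_eq, ha y hy]

theorem mem_PF {S : Finset Ω} {g : alternatingGroup Ω} :
    g ∈ PF S ↔ ∀ y ∈ S, (g : Perm Ω) y = y := Iff.rfl

/-- a 3-cycle -/
def c3 (x y z : Ω) (hxy : x ≠ y) (hyz : y ≠ z) : alternatingGroup Ω :=
  ⟨swap x y * swap y z, by
    rw [mem_alternatingGroup, Perm.sign_mul, sign_swap hxy, sign_swap hyz]; rfl⟩

theorem c3_left {x y z : Ω} (hxy : x ≠ y) (hyz : y ≠ z) (hxz : x ≠ z) :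
    (c3 x y z hxy hyz : Perm Ω) x = y := by
  change swap x y (swap y z x) = y
  rw [swap_apply_of_ne_of_ne hxy hxz, swap_apply_left]

theorem c3_fix {x y z : Ω} (hxy : x ≠ y) (hyz : y ≠ z) {w : Ω} (h1 : w ≠ x) (h2 : w ≠ y)
    (h3 : w ≠ z) : (c3 x y z hxy hyz : Perm Ω) w = w := by
  change swap x y (swap y z w) = w
  rw [swap_apply_of_ne_of_ne h2 h3, swap_apply_of_ne_of_ne h1 h2]

theorem c3_mem_PF {S : Finset Ω} {x y z : Ω} (hxy : x ≠ y) (hyz : y ≠ z) (hx : x ∉ S) (hy : y ∉ S)
    (hz : z ∉ S) : c3 x y z hxy hyz ∈ PF S := by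
  intro w hw
  exact c3_fix hxy hyz (fun h => hx (h ▸ hw)) (fun h => hy (h ▸ hw)) (fun h => hz (h ▸ hw))

theorem exists_notMem' (T : Finset Ω) (h : T.card < Fintype.card Ω) : ∃ a, a ∉ T := by
  by_contra hcon
  push Not at hcon
  have : T = Finset.univ := Finset.eq_univ_iff_forall.2 hcon
  rw [this, Finset.card_univ] at h
  exact lt_irrefl _ h

/-- two further points outside a set -/
theorem exists_two_notMem (T : Finset Ω) (h : T.card + 1 < Fintype.card Ω) :
    ∃ a b, a ∉ T ∧ b ∉ T ∧ a ≠ b := by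
  obtain ⟨a, ha⟩ := exists_notMem' T (by omega)
  obtain ⟨b, hb⟩ := exists_notMem' (insert a T) (by
    have := Finset.card_insert_le a T
    omega)
  rw [Finset.mem_insert, not_or] at hb
  exact ⟨a, b, ha, hb.2, fun h => hb.1 h.symm⟩

theorem mem_of_fixed {S : Finset Ω} (hS : S.card + 3 ≤ Fintype.card Ω) {x : Ω}
    (h : ∀ g ∈ PF S, (g : Perm Ω) x = x) : x ∈ S := by
  by_contra hx
  obtain ⟨a, b, ha, hb, hab⟩ := exists_two_notMem (insert x S) (by
    have := Finset.card_insert_le x S
    omega)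
  rw [Finset.mem_insert, not_or] at ha hb
  have h1 := h _ (c3_mem_PF (x := x) (y := a) (z := b) (fun h => ha.1 h.symm) hab hx ha.2 hb.2)
  rw [c3_left _ _ (fun h => hb.1 h.symm)] at h1
  exact ha.1 h1

theorem PF_injective {S T : Finset Ω} (hS : S.card + 3 ≤ Fintype.card Ω)
    (hT : T.card + 3 ≤ Fintype.card Ω) (h : PF S = PF T) : S = T := by
  ext x
  constructor
  · intro hx
    apply mem_of_fixed hT
    intro g hg
    rw [← h] at hg
    exact hg x hx
  · intro hx
    apply mem_of_fixed hS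
    intro g hg
    rw [h] at hg
    exact hg x hx

theorem map_conj_PF (S : Finset Ω) (g : alternatingGroup Ω) :
    (PF S).map (MulAut.conj g).toMonoidHom = PF (S.image (g : Perm Ω)) := by
  ext x
  rw [Subgroup.mem_map_equiv, MulAut.conj_symm_apply, mem_PF, mem_PF]
  constructor
  · intro h w hw
    obtain ⟨y, hy, rfl⟩ := Finset.mem_image.1 hw
    have := h y hy
    rw [Subgroup.coe_mul, Subgroup.coe_mul, Subgroup.coe_inv, Perm.mul_apply, Perm.mul_apply,
      Perm.inv_eq_iff_eq] at this
    exact this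
  · intro h y hy
    rw [Subgroup.coe_mul, Subgroup.coe_mul, Subgroup.coe_inv, Perm.mul_apply, Perm.mul_apply,
      Perm.inv_eq_iff_eq]
    exact h _ (Finset.mem_image_of_mem _ hy)

theorem card_image_perm (S : Finset Ω) (g : Perm Ω) : (S.image g).card = S.card :=
  Finset.card_image_of_injective S g.injective

theorem image_eq_iff (S : Finset Ω) (g : Perm Ω) : S.image g = S ↔ ∀ x, x ∈ S ↔ g x ∈ S := by
  constructor
  · intro h x
    constructor
    · intro hx
      rw [← h]
      exact Finset.mem_image_of_mem _ hx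
    · intro hx
      rw [← h] at hx
      obtain ⟨y, hy, hyx⟩ := Finset.mem_image.1 hx
      rw [← g.injective hyx]
      exact hy
  · intro h
    ext w
    constructor
    · intro hw
      obtain ⟨y, hy, rfl⟩ := Finset.mem_image.1 hw
      exact (h y).1 hy
    · intro hw
      refine Finset.mem_image.2 ⟨g⁻¹ w, ?_, by simp⟩
      rw [h]
      simpa using hw

theorem mem_normalizer_PF {S : Finset Ω} (hS : S.card + 3 ≤ Fintype.card Ω)
    (g : alternatingGroup Ω) :
    g ∈ Subgroup.normalizer (PF S : Set (alternatingGroup Ω)) ↔ S.image (g : Perm Ω) = S := by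
  have h1 : g ∈ Subgroup.normalizer (PF S : Set (alternatingGroup Ω)) ↔
      (PF S).map (MulAut.conj g).toMonoidHom = PF S := Subgroup.mem_normalizer_iff_map_conj_eq
  rw [h1, map_conj_PF]
  constructor
  · intro h
    exact PF_injective (by rw [card_image_perm]; exact hS) hS h
  · intro h
    rw [h]

theorem PF_inf (S T : Finset Ω) : PF S ⊓ PF T = PF (S ∪ T) := by
  ext x
  rw [Subgroup.mem_inf, mem_PF, mem_PF, mem_PF]
  constructor
  · rintro ⟨h1, h2⟩ y hy
    rcases Finset.mem_union.1 hy with h | h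
    · exact h1 y h
    · exact h2 y h
  · intro h
    exact ⟨fun y hy => h y (Finset.mem_union_left _ hy), fun y hy => h y (Finset.mem_union_right _ hy)⟩

/-- the centraliser of the pointwise stabiliser of `Δ` is the pointwise stabiliser of `Δᶜ` -/
theorem centralizer_PF {Δ : Finset Ω} (hΔ : Δ.card + 5 ≤ Fintype.card Ω) :
    Subgroup.centralizer (PF Δ : Set (alternatingGroup Ω)) = PF Δᶜ := by
  ext g
  rw [Subgroup.mem_centralizer_iff, mem_PF]
  constructor
  · intro h x hx
    rw [Finset.mem_compl] at hx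
    by_contra hne
    obtain ⟨a, b, ha, hb, hab⟩ := exists_two_notMem (insert x (insert ((g : Perm Ω) x) Δ)) (by
      have h1 := Finset.card_insert_le x (insert ((g : Perm Ω) x) Δ)
      have h2 := Finset.card_insert_le ((g : Perm Ω) x) Δ
      omega)
    simp only [Finset.mem_insert, not_or] at ha hb
    have hc := h _ (c3_mem_PF (x := x) (y := a) (z := b) (fun h => ha.1 h.symm) hab hx ha.2.2 hb.2.2)
    have h2 := congrArg (fun m : alternatingGroup Ω => (m : Perm Ω) x) hc
    simp only [Subgroup.coe_mul, Perm.mul_apply] at h2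
    rw [c3_left _ _ (fun h => hb.1 h.symm),
      c3_fix _ _ hne (fun h => ha.2.1 h.symm) (fun h => hb.2.1 h.symm)] at h2
    exact ha.1 ((g : Perm Ω).injective h2.symm)
  · intro h l hl
    apply Subtype.ext
    rw [Subgroup.coe_mul, Subgroup.coe_mul]
    have hd : Perm.Disjoint (l : Perm Ω) (g : Perm Ω) := by
      intro x
      by_cases hx : x ∈ Δ
      · exact Or.inl (hl x hx)
      · exact Or.inr (h x (Finset.mem_compl.2 hx))
    exact hd.commute

theorem odd_card_PF {T : Finset Ω} (hT : Fintype.card Ω ≤ T.card + 3) : Odd (Nat.card (PF T)) := by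
  by_contra hodd
  rw [Nat.not_odd_iff_even, even_iff_two_dvd] at hodd
  obtain ⟨t, ht⟩ := exists_prime_orderOf_dvd_card' (G := PF T) 2 hodd
  have ho : orderOf ((t : alternatingGroup Ω) : Perm Ω) = 2 := by
    rw [Subgroup.orderOf_coe, Subgroup.orderOf_coe, ht]
  obtain ⟨k, hk⟩ := cycleType_prime_order (σ := ((t : alternatingGroup Ω) : Perm Ω))
    (by rw [ho]; exact Nat.prime_two)
  rw [ho] at hk
  have hsupp : ((t : alternatingGroup Ω) : Perm Ω).support ⊆ Tᶜ := by
    intro x hx
    rw [Finset.mem_compl]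
    intro hxT
    exact (mem_support.1 hx) (t.2 x hxT)
  have hc := Finset.card_le_card hsupp
  rw [← sum_cycleType, hk, Multiset.sum_replicate, smul_eq_mul, Finset.card_compl] at hc
  have hk0 : k = 0 := by omega
  subst hk0
  have hsw : ((t : alternatingGroup Ω) : Perm Ω).IsSwap := by
    rw [isSwap_iff_cycleType, hk]; rfl
  have h1 := hsw.sign_eq
  have h2 : sign ((t : alternatingGroup Ω) : Perm Ω) = 1 := (t : alternatingGroup Ω).2
  rw [h2] at h1
  revert h1; decide

theorem even_card_PF {T : Finset Ω} (hT : T.card + 4 ≤ Fintype.card Ω) : Even (Nat.card (PF T)) := by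
  obtain ⟨a, b, ha, hb, hab⟩ := exists_two_notMem T (by omega)
  obtain ⟨c, d, hc, hd, hcd⟩ := exists_two_notMem (insert a (insert b T)) (by
    have h1 := Finset.card_insert_le a (insert b T)
    have h2 := Finset.card_insert_le b T
    omega)
  simp only [Finset.mem_insert, not_or] at hc hd
  have hcomm := swap_comm_of_disjoint' (a := a) (b := b) (c := c) (d := d)
    (fun h => hc.1 h.symm) (fun h => hd.1 h.symm) (fun h => hc.2.1 h.symm) (fun h => hd.2.1 h.symm)
  let t : alternatingGroup Ω := ⟨swap a b * swap c d, by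
    rw [mem_alternatingGroup, Perm.sign_mul, sign_swap hab, sign_swap hcd]; rfl⟩
  have htm : t ∈ PF T := by
    intro w hw
    change swap a b (swap c d w) = w
    have w1 : w ≠ c := fun h => hc.2.2 (h ▸ hw)
    have w2 : w ≠ d := fun h => hd.2.2 (h ▸ hw)
    have w3 : w ≠ a := fun h => ha (h ▸ hw)
    have w4 : w ≠ b := fun h => hb (h ▸ hw)
    rw [swap_apply_of_ne_of_ne w1 w2, swap_apply_of_ne_of_ne w3 w4]
  have ht2 : (⟨t, htm⟩ : PF T) ^ 2 = 1 := by
    apply Subtype.ext
    apply Subtype.ext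
    change (swap a b * swap c d) ^ 2 = 1
    rw [pow_two, mul_assoc, ← mul_assoc (swap c d), ← hcomm, mul_assoc, swap_mul_self, mul_one,
      swap_mul_self]
  have ht1 : (⟨t, htm⟩ : PF T) ≠ 1 := by
    intro h
    have h1 := congrArg (fun m : PF T => ((m : alternatingGroup Ω) : Perm Ω) a) h
    change swap a b (swap c d a) = a at h1
    rw [swap_apply_of_ne_of_ne (fun h => hc.1 h.symm) (fun h => hd.1 h.symm), swap_apply_left] at h1
    exact hab h1.symm
  have ho := orderOf_eq_prime ht2 ht1
  rw [even_iff_two_dvd, ← ho]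
  exact orderOf_dvd_natCard _

end Cfsg.Agent.Lib.Helper29
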