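import Mathlib
import Cfsg.Prelude.Def_Local
import Cfsg.Agent.H9.Comp
import Cfsg.Agent.Lib.Helper11.Quasi
import Cfsg.Agent.Lib.Helper29.StdAlt1

/-!
The pointwise stabiliser of four points is a standard subgroup of the alternating group of
degree at least 9.
-/

set_option autoImplicit false

namespace Cfsg.Agent.Lib.Helper29

open Equiv Equiv.Perm

variable {Ω : Type*} [Fintype Ω] [DecidableEq Ω]

theorem alt_quasisimple {α : Type*} [Fintype α] [DecidableEq α] (h5 : 5 ≤ Nat.card α) :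
    Cfsg.IsQuasisimple (alternatingGroup α) := by
  haveI := alternatingGroup.isSimpleGroup h5
  rw [Cfsg.H9.isQuasisimple_iff]
  refine ⟨⟨commutator_alternatingGroup_eq_top h5⟩, inferInstance, fun N hN => ?_⟩
  rcases hN.eq_bot_or_eq_top with h | h
  · right; rw [h]; exact bot_le
  · left; exact h

theorem PF_mulEquiv (Δ : Finset Ω) : Nonempty (alternatingGroup {x : Ω // x ∉ Δ} ≃* PF Δ) := by
  let ψ : alternatingGroup {x : Ω // x ∉ Δ} →* alternatingGroup Ω :=
    ((ofSubtype : Perm {x : Ω // x ∉ Δ} →* Perm Ω).comp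
      (alternatingGroup {x : Ω // x ∉ Δ}).subtype).codRestrict
      (alternatingGroup Ω) (fun σ => by
        rw [mem_alternatingGroup]
        change sign (ofSubtype (σ : Perm {x : Ω // x ∉ Δ})) = 1
        rw [sign_ofSubtype]; exact σ.2)
  have hinj : Function.Injective ψ := by
    intro σ τ h
    have h1 : ofSubtype (σ : Perm {x : Ω // x ∉ Δ}) = ofSubtype (τ : Perm {x : Ω // x ∉ Δ}) :=
      congrArg Subtype.val h
    exact Subtype.ext (ofSubtype_injective h1)
  have hr : ψ.range = PF Δ := by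
    ext g
    constructor
    · rintro ⟨σ, rfl⟩ y hy
      exact ofSubtype_apply_of_not_mem (σ : Perm {x : Ω // x ∉ Δ}) (fun h => h hy)
    · intro hg
      have h1 : ∀ x, (g : Perm Ω) x ∉ Δ ↔ x ∉ Δ := by
        intro x
        rw [not_iff_not]
        constructor
        · intro h
          have h2 := (g : Perm Ω).injective (hg _ h)
          rw [← h2]; exact h
        · intro h
          rw [hg x h]; exact h
      have h2 : ∀ x, (g : Perm Ω) x ≠ x → x ∉ Δ := fun x hx hxΔ => hx (hg x hxΔ)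
      refine ⟨⟨(g : Perm Ω).subtypePerm h1, ?_⟩, ?_⟩
      · rw [mem_alternatingGroup, sign_subtypePerm _ h1 h2]; exact g.2
      · apply Subtype.ext
        exact ofSubtype_subtypePerm h1 h2
  exact ⟨(MonoidHom.ofInjective hinj).trans (MulEquiv.subgroupCongr hr)⟩

theorem commutator_PF_ne_bot {Δ : Finset Ω} (hΔ : Δ.card = 4) (h9 : 9 ≤ Fintype.card Ω)
    (g : alternatingGroup Ω) (hg : (PF Δ).map (MulAut.conj g).toMonoidHom ≠ PF Δ) :
    ⁅PF Δ, (PF Δ).map (MulAut.conj g).toMonoidHom⁆ ≠ ⊥ := by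
  rw [map_conj_PF] at hg ⊢
  set Δ' := Δ.image (g : Perm Ω) with hΔ'
  have hc' : Δ'.card = 4 := by rw [hΔ', card_image_perm, hΔ]
  have hne : Δ' ≠ Δ := fun h => hg (by rw [h])
  obtain ⟨a', ha', ha'2⟩ : ∃ a', a' ∈ Δ ∧ a' ∉ Δ' := by
    by_contra hcon
    push Not at hcon
    exact hne (Finset.eq_of_subset_of_card_le hcon (by rw [hc', hΔ])).symm
  obtain ⟨x, hx⟩ := exists_notMem' (Δ ∪ Δ') (by
    have := Finset.card_union_le Δ Δ'
    omega)
  rw [Finset.mem_union, not_or] at hx
  obtain ⟨b', hb'⟩ := exists_notMem' (insert x (insert a' Δ')) (by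
    have h1 := Finset.card_insert_le x (insert a' Δ')
    have h2 := Finset.card_insert_le a' Δ'
    omega)
  obtain ⟨a, b, ha, hb, hab⟩ := exists_two_notMem (insert x Δ) (by
    have h1 := Finset.card_insert_le x Δ
    omega)
  simp only [Finset.mem_insert, not_or] at hb' ha hb
  intro hbot
  rw [Subgroup.commutator_eq_bot_iff_le_centralizer] at hbot
  have hxa : x ≠ a := fun h => ha.1 h.symm
  have hxb : x ≠ b := fun h => hb.1 h.symm
  have hxa' : x ≠ a' := fun h => hx.1 (h ▸ ha')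
  have hxb' : x ≠ b' := fun h => hb'.1 h.symm
  have ha'b' : a' ≠ b' := fun h => hb'.2.1 h.symm
  have ha'a : a' ≠ a := fun h => ha.2 (h ▸ ha')
  have ha'b : a' ≠ b := fun h => hb.2 (h ▸ ha')
  have hc := c3_mem_PF (S := Δ) hxa hab hx.1 ha.2 hb.2
  have hc2 := c3_mem_PF (S := Δ') hxa' ha'b' hx.2 ha'2 hb'.2.2
  have hcomm := (Subgroup.mem_centralizer_iff.1 (hbot hc)) _ hc2
  have h2 := congrArg (fun m : alternatingGroup Ω => (m : Perm Ω) x) hcomm
  simp only [Subgroup.coe_mul, Perm.mul_apply] at h2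
  rw [c3_left hxa hab hxb, c3_left hxa' ha'b' hxb', c3_fix hxa hab hxa'.symm ha'a ha'b] at h2
  have h3 := c3_left hxa' ha'b' hxb'
  exact hxa ((c3 x a' b' hxa' ha'b' : Perm Ω).injective (h3.trans h2.symm))

theorem PF_isStandard {Δ : Finset Ω} (hΔ : Δ.card = 4) (h9 : 9 ≤ Fintype.card Ω) :
    Cfsg.IsStandardSubgroup (PF Δ) := by
  have hcent := centralizer_PF (Δ := Δ) (by omega)
  have hcc : (Δᶜ).card = Fintype.card Ω - 4 := by rw [Finset.card_compl, hΔ]
  refine ⟨?_, ?_, ?_, ?_⟩
  · obtain ⟨e⟩ := PF_mulEquiv Δ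
    refine Cfsg.Agent.Lib.Helper11.isQuasisimple_of_mulEquiv e (alt_quasisimple ?_)
    rw [Nat.card_eq_fintype_card, Fintype.card_subtype_compl, Fintype.card_coe, hΔ]; omega
  · rw [hcent]
    refine ⟨even_card_PF (by omega), fun g hg => ?_⟩
    rw [mem_normalizer_PF (by omega)] at hg
    rw [map_conj_PF, PF_inf]
    apply odd_card_PF
    obtain ⟨w, hw1, hw2⟩ : ∃ w, w ∈ (Δᶜ).image (g : Perm Ω) ∧ w ∉ Δᶜ := by
      by_contra hcon
      push Not at hcon
      exact hg (Finset.eq_of_subset_of_card_le hcon (by rw [card_image_perm]))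
    have hsub : insert w Δᶜ ⊆ Δᶜ ∪ (Δᶜ).image (g : Perm Ω) := by
      intro y hy
      rcases Finset.mem_insert.1 hy with rfl | h
      · exact Finset.mem_union_right _ hw1
      · exact Finset.mem_union_left _ h
    have := Finset.card_le_card hsub
    rw [Finset.card_insert_of_notMem hw2, hcc] at this
    omega
  · exact fun g hg => commutator_PF_ne_bot hΔ h9 g hg
  · rw [hcent]
    ext g
    rw [mem_normalizer_PF (by omega), mem_normalizer_PF (by omega), image_eq_iff, image_eq_iff]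
    simp only [Finset.mem_compl]
    exact ⟨fun h x => not_congr (h x), fun h x => not_iff_not.1 (h x)⟩

end Cfsg.Agent.Lib.Helper29
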